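import Mathlib.Algebra.Homology.DerivedCategory.Basic
import Mathlib.Algebra.Homology.DerivedCategory.HomologySequence
import Mathlib.Algebra.Homology.DerivedCategory.Fractions
import Mathlib.Algebra.Homology.HomotopyCategory.MappingCone
import Mathlib.Algebra.Homology.Embedding.CochainComplex
import Mathlib.Algebra.Homology.SingleHomology

set_option autoImplicit false
universe w v u

open CategoryTheory CategoryTheory.Limits Pretriangulated HomologicalComplex
open CochainComplex.HomComplex

namespace Groth.Agent.PCoh41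

variable {C : Type u} [Category.{v} C] [Abelian C]

/-- the mapping cone of `u` is exact in degrees `≥ n`. -/
def NQIso {E F : CochainComplex C ℤ} (u : E ⟶ F) (n : ℤ) : Prop :=
  ∀ i, n ≤ i → IsZero ((CochainComplex.mappingCone u).homology i)

section
variable [HasDerivedCategory.{w} C]

noncomputable def hIso (K : CochainComplex C ℤ) (i : ℤ) :
    (DerivedCategory.homologyFunctor C i).obj (DerivedCategory.Q.obj K) ≅ K.homology i :=
  (DerivedCategory.homologyFunctorFactors C i).app K

lemma isZero_H_iff (K : CochainComplex C ℤ) (i : ℤ) :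
    IsZero ((DerivedCategory.homologyFunctor C i).obj (DerivedCategory.Q.obj K)) ↔
      IsZero (K.homology i) :=
  Iso.isZero_iff (hIso K i)

lemma isIso_H_map_iff {K L : CochainComplex C ℤ} (f : K ⟶ L) (i : ℤ) :
    IsIso ((DerivedCategory.homologyFunctor C i).map (DerivedCategory.Q.map f)) ↔
      IsIso (homologyMap f i) :=
  NatIso.isIso_map_iff (DerivedCategory.homologyFunctorFactors C i) f

lemma epi_H_map_iff {K L : CochainComplex C ℤ} (f : K ⟶ L) (i : ℤ) :
    Epi ((DerivedCategory.homologyFunctor C i).map (DerivedCategory.Q.map f)) ↔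
      Epi (homologyMap f i) :=
  (MorphismProperty.epimorphisms C).arrow_mk_iso_iff
    (Arrow.isoMk (hIso K i) (hIso L i)
      (DerivedCategory.homologyFunctorFactors_hom_naturality f i).symm)

/-- triangle version of the criterion. -/
lemma triangle_criterion (T : Triangle (DerivedCategory C)) (hT : T ∈ distTriang _) (n : ℤ) :
    (∀ i, n ≤ i → IsZero ((DerivedCategory.homologyFunctor C i).obj T.obj₃)) ↔
      ((∀ i, n < i → IsIso ((DerivedCategory.homologyFunctor C i).map T.mor₁)) ∧
        Epi ((DerivedCategory.homologyFunctor C n).map T.mor₁)) := by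
  constructor
  · intro h
    have hepi : ∀ i, n ≤ i → Epi ((DerivedCategory.homologyFunctor C i).map T.mor₁) := fun i hi =>
      (DerivedCategory.HomologySequence.epi_homologyMap_mor₁_iff T hT i).2 ((h i hi).eq_of_tgt _ _)
    refine ⟨fun i hi => ?_, hepi n le_rfl⟩
    have : Mono ((DerivedCategory.homologyFunctor C i).map T.mor₁) :=
      (DerivedCategory.HomologySequence.mono_homologyMap_mor₁_iff T hT (i - 1) i (by omega)).2
        ((h (i - 1) (by omega)).eq_of_src _ _)
    have := hepi i hi.le
    exact isIso_of_mono_of_epi _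
  · rintro ⟨hiso, hepi⟩ i hi
    have h2 : (DerivedCategory.homologyFunctor C i).map T.mor₂ = 0 := by
      refine (DerivedCategory.HomologySequence.epi_homologyMap_mor₁_iff T hT i).1 ?_
      rcases eq_or_lt_of_le hi with rfl | hi
      · exact hepi
      · have := hiso i hi; infer_instance
    have h3 : DerivedCategory.HomologySequence.δ T i (i + 1) = 0 := by
      refine (DerivedCategory.HomologySequence.mono_homologyMap_mor₁_iff T hT i (i + 1) rfl).1 ?_
      have := hiso (i + 1) (by omega); infer_instance
    exact (DerivedCategory.HomologySequence.exact₃ T hT i (i + 1) rfl).isZero_X₂ h2 h3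

end

lemma nqiso_iff {E F : CochainComplex C ℤ} (u : E ⟶ F) (n : ℤ) :
    NQIso u n ↔ (∀ i, n < i → IsIso (homologyMap u i)) ∧ Epi (homologyMap u n) := by
  let _ := HasDerivedCategory.standard C
  exact (forall₂_congr fun i _ => (isZero_H_iff (CochainComplex.mappingCone u) i).symm).trans
    ((triangle_criterion _ (DerivedCategory.mappingCone_triangle_distinguished u) n).trans
      (and_congr (forall₂_congr fun i _ => isIso_H_map_iff u i) (epi_H_map_iff u n)))

lemma nqiso_comp_quasiIso {E F G : CochainComplex C ℤ} (u : E ⟶ F) (s : F ⟶ G) [QuasiIso s]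
    {n : ℤ} (h : NQIso u n) : NQIso (u ≫ s) n := by
  rw [nqiso_iff] at h ⊢
  obtain ⟨h1, h2⟩ := h
  refine ⟨fun i hi => ?_, ?_⟩
  · have := h1 i hi
    rw [homologyMap_comp]; infer_instance
  · rw [homologyMap_comp]; infer_instance

lemma nqiso_mono {E F : CochainComplex C ℤ} {u : E ⟶ F} {n m : ℤ} (h : NQIso u n) (hm : n ≤ m) :
    NQIso u m :=
  fun i hi => h i (hm.trans hi)

lemma quasiIso_of_nqiso {E F : CochainComplex C ℤ} (u : E ⟶ F) (h : ∀ n, NQIso u n) :
    QuasiIso u :=
  ⟨fun i => (quasiIsoAt_iff_isIso_homologyMap _ _).2 (((nqiso_iff u (i - 1)).1 (h _)).1 i (by omega))⟩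

lemma nqiso_of_quasiIso {E F : CochainComplex C ℤ} (u : E ⟶ F) [QuasiIso u] (n : ℤ) :
    NQIso u n :=
  (nqiso_iff u n).2 ⟨fun _ _ => inferInstance, inferInstance⟩

end Groth.Agent.PCoh41
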