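import Groth.Agent.PCoh41.Types
import Mathlib.Algebra.Homology.ShortComplex.HomologicalComplex
import Mathlib.Algebra.Homology.HomologicalComplex

set_option autoImplicit false
universe w v u

open CategoryTheory CategoryTheory.Limits HomologicalComplex

namespace Groth.Agent.PCoh41

variable {C : Type u} [Category.{v} C] [Abelian C] {P : ObjectProperty C}

/-- `0 → Zⁱ → Xⁱ → Zʲ → 0`. -/
noncomputable def cyclesSC {ι : Type*} {c : ComplexShape ι} (K : HomologicalComplex C c) (i j : ι) :
    ShortComplex C :=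
  ShortComplex.mk (K.iCycles i) (K.toCycles i j) (by
    rw [← cancel_mono (K.iCycles j)]; simp)

lemma cyclesSC_shortExact {ι : Type*} {c : ComplexShape ι} (K : HomologicalComplex C c) (i j : ι)
    (hij : c.Rel i j) (h : K.ExactAt j) : (cyclesSC K i j).ShortExact := by
  have hepi : Epi (K.toCycles i j) := by
    have hs : (K.sc' i j (c.next j)).Exact := (K.exactAt_iff' i j _ (c.prev_eq' hij) rfl).1 h
    rw [epi_iff_surjective_up_to_refinements]
    intro A a
    obtain ⟨A', π, hπ, x, hx⟩ := hs.exact_up_to_refinements (a ≫ K.iCycles j)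
      ((Category.assoc _ _ _).trans
        ((congrArg (fun t => a ≫ t) (K.iCycles_d j _)).trans comp_zero))
    refine ⟨A', π, hπ, x, ?_⟩
    rw [← cancel_mono (K.iCycles j), Category.assoc]
    exact hx.trans ((congrArg (fun t => x ≫ t) (K.toCycles_i i j)).symm.trans
      (Category.assoc _ _ _).symm)
  have : Mono (cyclesSC K i j).f := inferInstanceAs (Mono (K.iCycles i))
  have : Epi (cyclesSC K i j).g := hepi
  refine ShortComplex.ShortExact.mk ?_
  rw [ShortComplex.exact_iff_exact_up_to_refinements]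
  intro A (x : A ⟶ K.X i) (hx : x ≫ K.toCycles i j = 0)
  refine ⟨A, 𝟙 A, inferInstance, K.liftCycles x j (c.next_eq' hij) ?_, ?_⟩
  · rw [← K.toCycles_i, ← Category.assoc, hx, zero_comp]
  · exact (Category.id_comp _).trans (K.liftCycles_i _ _ _ _).symm

/-- objects of `0 → Zⁿ → Eⁿ → Eⁿ⁺¹ → ⋯`. -/
noncomputable def augX (E : CochainComplex C ℤ) (n : ℤ) : ℕ → C
  | 0 => E.cycles (n + ((0 : ℕ) : ℤ))
  | k + 1 => E.X (n + (k : ℤ))

/-- differentials of `0 → Zⁿ → Eⁿ → Eⁿ⁺¹ → ⋯`. -/
noncomputable def augD (E : CochainComplex C ℤ) (n : ℤ) :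
    ∀ k : ℕ, augX E n k ⟶ augX E n (k + 1)
  | 0 => E.iCycles _
  | k + 1 => E.d (n + (k : ℤ)) (n + ((k + 1 : ℕ) : ℤ))

/-- the complex `0 → Zⁿ → Eⁿ → Eⁿ⁺¹ → ⋯`, indexed by `ℕ`. -/
noncomputable def augCycles (E : CochainComplex C ℤ) (n : ℤ) : CochainComplex C ℕ :=
  CochainComplex.of (augX E n) (augD E n)
    (fun k => by
      cases k with
      | zero => exact E.iCycles_d _ _
      | succ k => exact E.d_comp_d _ _ _)

lemma augCycles_d (E : CochainComplex C ℤ) (n : ℤ) (k : ℕ) :
    (augCycles E n).d k (k + 1) = augD E n k :=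
  CochainComplex.of_d (augX E n) (augD E n) k

lemma augCycles_exactAt (E : CochainComplex C ℤ) (n : ℤ)
    (hE : ∀ i, n < i → IsZero (E.homology i)) : ∀ k, (augCycles E n).ExactAt k := by
  intro k
  match k with
  | 0 =>
    rw [exactAt_iff' _ 0 0 1 (by simp) (by simp),
      ShortComplex.exact_iff_mono _ ((augCycles E n).shape 0 0 (by simp))]
    show Mono ((augCycles E n).d 0 1)
    rw [augCycles_d E n 0]
    exact inferInstanceAs (Mono (E.iCycles _))
  | 1 =>
    rw [exactAt_iff' _ 0 1 2 (by simp) (by simp),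
      ShortComplex.exact_iff_exact_up_to_refinements]
    intro A x hx
    refine ⟨A, 𝟙 A, inferInstance,
      E.liftCycles (j := n + ((1 : ℕ) : ℤ)) x (by simp) ?_, ?_⟩
    · have hd := augCycles_d E n 1
      change x ≫ (augCycles E n).d 1 2 = 0 at hx
      rwa [show (augCycles E n).d 1 2 = augD E n 1 from hd] at hx
    · change 𝟙 A ≫ x = _ ≫ (augCycles E n).d 0 1
      rw [augCycles_d E n 0]
      exact (Category.id_comp _).trans (E.liftCycles_i _ _ _ _).symm
  | k + 2 =>
    rw [exactAt_iff' _ (k + 1) (k + 1 + 1) (k + 1 + 1 + 1) (by simp) (by simp)]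
    have hex : (E.sc' (n + (k : ℤ)) (n + ((k + 1 : ℕ) : ℤ)) (n + ((k + 1 + 1 : ℕ) : ℤ))).Exact :=
      (exactAt_iff' _ _ _ _ (by simp; omega) (by simp; omega)).1
        ((E.exactAt_iff_isZero_homology _).2 (hE _ (by push_cast; omega)))
    have h1 := augCycles_d E n (k + 1)
    have h2 := augCycles_d E n (k + 1 + 1)
    exact (ShortComplex.exact_iff_of_iso (ShortComplex.isoMk
      (S₁ := E.sc' (n + (k : ℤ)) (n + ((k + 1 : ℕ) : ℤ)) (n + ((k + 1 + 1 : ℕ) : ℤ)))
      (S₂ := (augCycles E n).sc' (k + 1) (k + 1 + 1) (k + 1 + 1 + 1))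
      (Iso.refl _) (Iso.refl _) (Iso.refl _)
      ((Category.id_comp _).trans (h1.trans (Category.comp_id _).symm))
      ((Category.id_comp _).trans (h2.trans (Category.comp_id _).symm)))).1 hex

/-- S5602. -/
lemma ft_homology_of_strictPC
    (hqs : PCoh.IsQuasiStableUnderKernels P) (n : ℤ) (E : CochainComplex C ℤ)
    (hE : PCoh.IsStrictPC P n E) (hac : ∀ i : ℤ, n < i → IsZero (E.homology i)) :
    PCoh.IsOfFiniteType P (E.homology n) := by
  obtain ⟨⟨b, hb⟩, hP⟩ := hE
  have hfin : ∃ N : ℕ, ∀ k : ℕ, N < k → IsZero ((augCycles E n).X k) := by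
    refine ⟨(b - n).toNat + 1, fun k hk => ?_⟩
    match k with
    | 0 => omega
    | k + 1 => exact hb (n + (k : ℤ)) (by omega)
  have h := hqs (augCycles E n) (augCycles_exactAt E n hac) hfin (fun k hk => by
    match k with
    | 0 => omega
    | k + 1 => exact hP (n + (k : ℤ)) (by omega))
  have : n + ((0 : ℕ) : ℤ) = n := by simp
  have h' : PCoh.IsOfFiniteType P (E.cycles n) := by rw [← this]; exact h
  exact ft_of_epi (E.homologyπ n) h'

/-- descending induction along the cycles of a complex exact at the top. -/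
lemma cycles_induction (K : CochainComplex C ℤ) (Φ : C → Prop) (hzero : ∀ {X : C}, IsZero X → Φ X)
    (step : ∀ S : ShortComplex C, S.ShortExact → Φ S.X₂ → Φ S.X₃ → Φ S.X₁) (j c : ℤ)
    (hc : ∀ i, c < i → IsZero (K.X i)) (hex : ∀ i, j < i → K.ExactAt i)
    (hΦ : ∀ i, j ≤ i → Φ (K.X i)) : Φ (K.cycles j) := by
  suffices ∀ (m : ℕ) (i : ℤ), j ≤ i → c < i + m → Φ (K.cycles i) by
    exact this ((c - j).toNat + 1) j le_rfl (by omega)
  intro m
  induction m with
  | zero =>
    intro i _ hi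
    exact hzero ((hc i (by simpa using hi)).of_mono (K.iCycles i))
  | succ m ih =>
    intro i hji hi
    exact step _ (cyclesSC_shortExact K i (i + 1) rfl (hex _ (by omega))) (hΦ i hji)
      (ih (i + 1) (by omega) (by omega))

/-- descending induction along the cycles of an `ℕ`-indexed complex exact at the top. -/
lemma cycles_induction_nat (K : CochainComplex C ℕ) (Φ : C → Prop)
    (hzero : ∀ {X : C}, IsZero X → Φ X)
    (step : ∀ S : ShortComplex C, S.ShortExact → Φ S.X₂ → Φ S.X₃ → Φ S.X₁) (j c : ℕ)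
    (hc : ∀ i, c < i → IsZero (K.X i)) (hex : ∀ i, j < i → K.ExactAt i)
    (hΦ : ∀ i, j ≤ i → Φ (K.X i)) : Φ (K.cycles j) := by
  suffices ∀ (m : ℕ) (i : ℕ), j ≤ i → c < i + m → Φ (K.cycles i) by
    exact this ((c - j) + 1) j le_rfl (by omega)
  intro m
  induction m with
  | zero =>
    intro i _ hi
    exact hzero ((hc i (by omega)).of_mono (K.iCycles i))
  | succ m ih =>
    intro i hji hi
    exact step _ (cyclesSC_shortExact K i (i + 1) rfl (hex _ (by omega))) (hΦ i hji)
      (ih (i + 1) (by omega) (by omega))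

end Groth.Agent.PCoh41
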