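import Groth.Agent.PCoh41.Ext
import Groth.Agent.PCoh41.Cycles

set_option autoImplicit false
universe w v u

open CategoryTheory CategoryTheory.Limits HomologicalComplex Pretriangulated
open CochainComplex (mappingCone)
open scoped ZeroObject

namespace Groth.Agent.PCoh41

variable {C : Type u} [Category.{v} C] [Abelian C] {P : ObjectProperty C}

lemma isZero_homology_of_isZero_X (K : CochainComplex C ℤ) (i : ℤ) (h : IsZero (K.X i)) :
    IsZero (K.homology i) :=
  (K.exactAt_iff_isZero_homology i).1 (ShortComplex.exact_of_isZero_X₂ _ h)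

lemma isZero_homology_of_quasiIso {K L : CochainComplex C ℤ} (s : K ⟶ L) [QuasiIso s] (i : ℤ) :
    IsZero (K.homology i) ↔ IsZero (L.homology i) :=
  Iso.isZero_iff (isoOfQuasiIsoAt s i)

/-- S5600. -/
lemma factor {E F : CochainComplex C ℤ} (u : E ⟶ F) (n : ℤ) (h : NQIso u n) :
    ∃ (E' : CochainComplex C ℤ) (v : E ⟶ E') (u' : E' ⟶ F), v ≫ u' = u ∧ QuasiIso u' ∧
      (∀ i : ℤ, Mono (v.f i)) ∧ (∀ i : ℤ, n ≤ i → IsIso (v.f i)) := by
  have : (mappingCone u).IsLE (n - 1) :=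
    (CochainComplex.isLE_iff _ _).2 (fun i hi =>
      (exactAt_iff_isZero_homology _ _).2 (h i (by omega)))
  let ℓ := (mappingCone u).ιTruncLE (n - 1)
  exact ⟨_, extι u ℓ, extDesc u ℓ, extι_extDesc u ℓ, quasiIso_extDesc u ℓ, mono_extι u ℓ,
    fun i hi => isIso_extι u ℓ i (CochainComplex.isZero_of_isStrictlyLE _ (n - 1) i (by omega))⟩

lemma single_nqiso (hA : Add P) (hql : PCoh.IsQuasiLiftable P) (M : CochainComplex C ℤ) (i : ℤ)
    (hM : ∀ j, i < j → IsZero (M.homology j)) (hft : PCoh.IsOfFiniteType P (M.homology i)) :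
    ∃ (P₁ : C) (m : (single C (ComplexShape.up ℤ) i).obj P₁ ⟶ M), P P₁ ∧ NQIso m i ∧
      ∀ j, P (((single C (ComplexShape.up ℤ) i).obj P₁).X j) := by
  obtain ⟨P₁, g, hP₁, hg⟩ := ft_lift hql (M.homologyπ i) hft
  let m : (single C (ComplexShape.up ℤ) i).obj P₁ ⟶ M :=
    mkHomFromSingle (g ≫ M.iCycles i) (fun k _ => by simp)
  refine ⟨P₁, m, hP₁, (nqiso_iff m i).2 ⟨fun j hj => ?_, ?_⟩, fun j => ?_⟩
  · exact ((isZero_single_obj_homology _ i P₁ j (by omega)).iso (hM j hj)).isIso_hom |> fun h => by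
      convert h
      exact (hM j hj).eq_of_tgt _ _
  · have hc : (singleObjCyclesSelfIso (ComplexShape.up ℤ) i P₁).inv ≫ cyclesMap m i = g := by
      rw [← cancel_mono (M.iCycles i)]
      simp [m]
    have : Epi (((singleObjCyclesSelfIso (ComplexShape.up ℤ) i P₁).inv ≫
        ((single C (ComplexShape.up ℤ) i).obj P₁).homologyπ i) ≫ homologyMap m i) := by
      rw [Category.assoc, homologyπ_naturality, reassoc_of% hc]
      exact hg
    exact epi_of_epi ((singleObjCyclesSelfIso (ComplexShape.up ℤ) i P₁).inv ≫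
        ((single C (ComplexShape.up ℤ) i).obj P₁).homologyπ i) _
  · by_cases hj : j = i
    · subst hj
      exact hA.ofIso (singleObjXSelf (ComplexShape.up ℤ) j P₁).symm hP₁
    · exact hA.zero (isZero_single_obj_X _ i P₁ j hj)

/-- Approximation data for `K` down to degree `n`. -/
structure App (P : ObjectProperty C) (n b : ℤ) (K : CochainComplex C ℤ) where
  L : CochainComplex C ℤ
  ℓ : L ⟶ K
  hP : ∀ i, P (L.X i)
  hlow : ∀ i, i < n → IsZero (L.X i)
  hup : ∀ i, b < i → IsZero (L.X i)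
  hn : NQIso ℓ n

/-- existence of approximation data. -/
def ApproxLE (P : ObjectProperty C) (n b : ℤ) (K : CochainComplex C ℤ) : Prop :=
  Nonempty (App P n b K)

/-- a strictly `n`-pseudo-coherent representative exists. -/
abbrev PCn [HasDerivedCategory.{w} C] (P : ObjectProperty C) (n : ℤ) (X : DerivedCategory C) :
    Prop :=
  ∃ E : CochainComplex C ℤ, PCoh.IsStrictPC P n E ∧ Nonempty (DerivedCategory.Q.obj E ≅ X)

lemma isIso_inr_zero (K : CochainComplex C ℤ) {Z : CochainComplex C ℤ} (hZ : IsZero Z)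
    (z : Z ⟶ K) : IsIso (CochainComplex.mappingCone.inr z) := by
  have : ∀ i, IsIso ((CochainComplex.mappingCone.inr z).f i) := fun i => by
    refine ⟨(CochainComplex.mappingCone.snd z).v i i (add_zero i), by simp, ?_⟩
    apply CochainComplex.mappingCone.ext_from _ (i + 1) i rfl
    · exact ((eval C _ (i + 1)).map_isZero hZ).eq_of_src _ _
    · simp
  exact Hom.isIso_of_components _

lemma nqiso_zero (K : CochainComplex C ℤ) {Z : CochainComplex C ℤ} (hZ : IsZero Z)
    (z : Z ⟶ K) (i : ℤ) (h : ∀ j, i ≤ j → IsZero (K.homology j)) : NQIso z i := by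
  have := isIso_inr_zero K hZ z
  exact fun j hj => (h j hj).of_iso
    ((homologyFunctor C _ j).mapIso (asIso (CochainComplex.mappingCone.inr z))).symm

lemma app_zero (hA : Add P) (K : CochainComplex C ℤ) (i b : ℤ)
    (h : ∀ j, i ≤ j → IsZero (K.homology j)) : ApproxLE P i b K := by
  have hz : IsZero (0 : CochainComplex C ℤ) := isZero_zero _
  exact ⟨⟨0, 0, fun j => hA.zero ((eval C _ j).map_isZero hz),
    fun j _ => (eval C _ j).map_isZero hz, fun j _ => (eval C _ j).map_isZero hz,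
    nqiso_zero K hz _ i h⟩⟩

lemma app_step (hA : Add P) (hql : PCoh.IsQuasiLiftable P) {K : CochainComplex C ℤ} {i b : ℤ}
    (hib : i ≤ b) (A : App P (i + 1) b K)
    (hft : PCoh.IsOfFiniteType P ((mappingCone A.ℓ).homology i)) :
    ∃ (A' : App P i b K) (v : A.L ⟶ A'.L), v ≫ A'.ℓ = A.ℓ ∧ ∀ j, j ≠ i → IsIso (v.f j) := by
  obtain ⟨P₁, m, hP₁, hm, hPm⟩ := single_nqiso hA hql _ i (fun j hj => A.hn j (by omega)) hft
  let A' : App P i b K :=
    { L := ext A.ℓ m
      ℓ := extDesc A.ℓ m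
      hP := fun j => hA.biprod (A.hP j) (hPm j)
      hlow := fun j hj => biprod_isZero_iff _ _ |>.2
        ⟨A.hlow j (by omega), isZero_single_obj_X _ i P₁ j (by omega)⟩
      hup := fun j hj => biprod_isZero_iff _ _ |>.2
        ⟨A.hup j hj, isZero_single_obj_X _ i P₁ j (by omega)⟩
      hn := nqiso_extDesc A.ℓ m hm }
  exact ⟨A', extι A.ℓ m, extι_extDesc A.ℓ m,
    fun j hj => isIso_extι A.ℓ m j (isZero_single_obj_X _ i P₁ j hj)⟩

/-- cones over quasi-isomorphic targets have the same homology. -/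
lemma cone_homology_iso {L K G : CochainComplex C ℤ} (f : L ⟶ K) (s : K ⟶ G) [QuasiIso s]
    (i : ℤ) : Nonempty ((mappingCone f).homology i ≅ (mappingCone (f ≫ s)).homology i) := by
  let _ := HasDerivedCategory.standard C
  let φ := DerivedCategory.Q.mapTriangle.map
    (CochainComplex.mappingCone.triangleMap f (f ≫ s) (𝟙 L) s (by simp))
  have h1 : IsIso φ.hom₁ := inferInstanceAs (IsIso (DerivedCategory.Q.map (𝟙 L)))
  have h2 : IsIso φ.hom₂ := inferInstanceAs (IsIso (DerivedCategory.Q.map s))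
  have := isIso₃_of_isIso₁₂ φ (DerivedCategory.mappingCone_triangle_distinguished f)
    (DerivedCategory.mappingCone_triangle_distinguished (f ≫ s)) h1 h2
  exact ⟨(hIso _ i).symm ≪≫ (DerivedCategory.homologyFunctor C i).mapIso (@asIso _ _ _ _ φ.hom₃ this) ≪≫ hIso _ i⟩

lemma coneX_prop (hA : Add P) {L K : CochainComplex C ℤ} (f : L ⟶ K) (j : ℤ)
    (hL : P (L.X (j + 1))) (hK : P (K.X j)) : P ((mappingCone f).X j) :=
  hA.ofIso (homotopyCofiber.XIsoBiprod f j (j + 1) rfl).symm (hA.biprod hL hK)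

lemma strictPC_cone (hA : Add P) {L K : CochainComplex C ℤ} (f : L ⟶ K) (n : ℤ)
    (hL : PCoh.IsStrictPC P (n + 1) L) (hK : PCoh.IsStrictPC P n K) :
    PCoh.IsStrictPC P n (mappingCone f) := by
  obtain ⟨⟨b₁, h₁⟩, hL⟩ := hL
  obtain ⟨⟨b₂, h₂⟩, hK⟩ := hK
  refine ⟨⟨max b₁ b₂, fun i hi => ?_⟩, fun i hi => coneX_prop hA f i (hL _ (by omega)) (hK i hi)⟩
  exact (CochainComplex.mappingCone.isZero_X_iff f i).2 ⟨h₁ _ (by omega), h₂ _ (by omega)⟩

/-- the core lemma: a complex quasi-isomorphic to a strict one admits approximations. -/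
lemma approx_of_quasiIso (hA : Add P) (hqs : PCoh.IsQuasiStableUnderKernels P)
    (hql : PCoh.IsQuasiLiftable P) {X E₀ : CochainComplex C ℤ} (s : X ⟶ E₀) [QuasiIso s]
    (n b : ℤ) (hE : PCoh.IsStrictPC P n E₀) (hb : ∀ j, b < j → IsZero (X.homology j))
    (hnb : n ≤ b + 1) : ApproxLE P n b X := by
  suffices ∀ (k : ℕ) (i : ℤ), n ≤ i → i + k = b + 1 → ApproxLE P i b X by
    exact this (b + 1 - n).toNat n le_rfl (by omega)
  intro k
  induction k with
  | zero => exact fun i _ hi => app_zero hA X i b (fun j hj => hb j (by omega))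
  | succ k ih =>
    intro i hni hi
    obtain ⟨A⟩ := ih (i + 1) (by omega) (by omega)
    have hstrict : PCoh.IsStrictPC P i (mappingCone (A.ℓ ≫ s)) :=
      strictPC_cone hA _ i ⟨⟨b, A.hup⟩, fun j _ => A.hP j⟩
        ⟨hE.1, fun j hj => hE.2 j (hni.trans hj)⟩
    obtain ⟨e⟩ := cone_homology_iso A.ℓ s i
    have hft := ft_homology_of_strictPC hqs i _ hstrict (fun j hj =>
      nqiso_comp_quasiIso A.ℓ s A.hn j (by omega))
    obtain ⟨A', -⟩ := app_step hA hql (by omega) A (ft_of_iso e.symm hft)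
    exact ⟨A'⟩

/-- from an approximation to an honest quasi-isomorphism from a strict complex. -/
lemma qiso_of_app (hA : Add P) {n b : ℤ} {K : CochainComplex C ℤ} (A : App P n b K)
    (hnb : n ≤ b + 1) :
    ∃ (L : CochainComplex C ℤ) (u : L ⟶ K), QuasiIso u ∧ PCoh.IsStrictPC P n L ∧
      ∀ i, b < i → IsZero (L.X i) := by
  obtain ⟨L, v, u, hvu, hu, -, hv⟩ := factor A.ℓ n A.hn
  have hz : ∀ i, b < i → IsZero (L.X i) := fun i hi => by
    have := hv i (by omega)
    exact (A.hup i hi).of_iso (asIso (v.f i)).symm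
  refine ⟨L, u, hu, ⟨⟨b, hz⟩, fun i hi => ?_⟩, hz⟩
  have := hv i hi
  exact hA.ofIso (asIso (v.f i)) (A.hP i)

section
variable [HasDerivedCategory.{w} C]

lemma pcn_iso {n : ℤ} {X Y : DerivedCategory C} (e : X ≅ Y) (h : PCn P n X) : PCn P n Y := by
  obtain ⟨E, hE, ⟨e'⟩⟩ := h
  exact ⟨E, hE, ⟨e' ≪≫ e⟩⟩

lemma pcn_mono {n m : ℤ} (hnm : n ≤ m) {X : DerivedCategory C} (h : PCn P n X) : PCn P m X := by
  obtain ⟨E, hE, e⟩ := h
  exact ⟨E, ⟨hE.1, fun i hi => hE.2 i (hnm.trans hi)⟩, e⟩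

lemma pcn_bound {n : ℤ} {X : DerivedCategory C} (h : PCn P n X) :
    ∃ b : ℤ, ∀ i, b < i → IsZero ((DerivedCategory.homologyFunctor C i).obj X) := by
  obtain ⟨E, ⟨⟨b, hb⟩, -⟩, ⟨e⟩⟩ := h
  exact ⟨b, fun i hi => ((isZero_H_iff E i).2 (isZero_homology_of_isZero_X E i (hb i hi))).of_iso
    ((DerivedCategory.homologyFunctor C i).mapIso e).symm⟩

/-- every `n`-pseudo-coherent complex has approximations. -/
lemma approx_of_pcn (hA : Add P) (hqs : PCoh.IsQuasiStableUnderKernels P)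
    (hql : PCoh.IsQuasiLiftable P) (K : CochainComplex C ℤ) (n b : ℤ)
    (hK : PCn P n (DerivedCategory.Q.obj K)) (hb : ∀ j, b < j → IsZero (K.homology j))
    (hnb : n ≤ b + 1) : ApproxLE P n b K := by
  obtain ⟨E₀, hE, ⟨e⟩⟩ := hK
  obtain ⟨X, s, hs, g, hg⟩ := DerivedCategory.right_fac e.inv
  have hs' : QuasiIso s := (DerivedCategory.isIso_Q_map_iff_quasiIso (φ := s)).1 hs
  have hgeq : DerivedCategory.Q.map g = DerivedCategory.Q.map s ≫ e.inv := by rw [hg]; simp
  have hg' : QuasiIso g := (DerivedCategory.isIso_Q_map_iff_quasiIso (φ := g)).1 (by rw [hgeq]; infer_instance)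
  obtain ⟨A⟩ := approx_of_quasiIso hA hqs hql g n b hE
    (fun j hj => (isZero_homology_of_quasiIso s j).2 (hb j hj)) hnb
  exact ⟨⟨A.L, A.ℓ ≫ s, A.hP, A.hlow, A.hup, nqiso_comp_quasiIso _ _ A.hn⟩⟩

/-- an honest quasi-isomorphism from a strict complex. -/
lemma qiso_of_pcn (hA : Add P) (hqs : PCoh.IsQuasiStableUnderKernels P)
    (hql : PCoh.IsQuasiLiftable P) (K : CochainComplex C ℤ) (n b : ℤ)
    (hK : PCn P n (DerivedCategory.Q.obj K)) (hb : ∀ j, b < j → IsZero (K.homology j))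
    (hnb : n ≤ b + 1) :
    ∃ (L : CochainComplex C ℤ) (u : L ⟶ K), QuasiIso u ∧ PCoh.IsStrictPC P n L ∧
      ∀ i, b < i → IsZero (L.X i) := by
  obtain ⟨A⟩ := approx_of_pcn hA hqs hql K n b hK hb hnb
  exact qiso_of_app hA A hnb

lemma pcn_of_app (hA : Add P) {n b : ℤ} {K : CochainComplex C ℤ} (A : App P n b K) :
    PCn P n (DerivedCategory.Q.obj K) := by
  obtain ⟨L, v, u, hvu, hu, -, hv⟩ := factor A.ℓ n A.hn
  refine ⟨L, ⟨⟨max b n, fun i hi => ?_⟩, fun i hi => ?_⟩, ⟨asIso (DerivedCategory.Q.map u)⟩⟩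
  · have := hv i (by omega)
    exact (A.hup i (by omega)).of_iso (asIso (v.f i)).symm
  · have := hv i hi
    exact hA.ofIso (asIso (v.f i)) (A.hP i)

lemma pcn_shift {n : ℤ} {X : DerivedCategory C} (h : PCn P n X) (m n' : ℤ) (hn : n' + m = n) :
    PCn P n' (X⟦m⟧) := by
  obtain ⟨E, ⟨⟨b, hb⟩, hP⟩, ⟨e⟩⟩ := h
  exact ⟨E⟦m⟧, ⟨⟨b - m, fun i hi => hb (i + m) (by omega)⟩, fun i hi => hP (i + m) (by omega)⟩,
    ⟨(DerivedCategory.Q.commShiftIso m).app E ≪≫ (shiftFunctor _ m).mapIso e⟩⟩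

/-- acyclic above means pseudo-coherent above. -/
lemma pcn_of_acyclic (hA : Add P) {X : DerivedCategory C} (b n : ℤ) (hn : b < n)
    (hb : ∀ i, b < i → IsZero ((DerivedCategory.homologyFunctor C i).obj X)) : PCn P n X := by
  let K := DerivedCategory.Q.objPreimage X
  let e : DerivedCategory.Q.obj K ≅ X := DerivedCategory.Q.objObjPreimageIso X
  have hK : ∀ i, n ≤ i → IsZero (K.homology i) := fun i hi =>
    (isZero_H_iff K i).1 ((hb i (by omega)).of_iso ((DerivedCategory.homologyFunctor C i).mapIso e))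
  obtain ⟨A⟩ := app_zero hA K n n hK
  exact pcn_iso e (pcn_of_app hA A)

/-- two out of three: cone. -/
lemma pcn₃ (hA : Add P) (hqs : PCoh.IsQuasiStableUnderKernels P)
    (hql : PCoh.IsQuasiLiftable P) (T : Triangle (DerivedCategory C)) (hT : T ∈ distTriang _)
    (n : ℤ) (h₁ : PCn P (n + 1) T.obj₁) (h₂ : PCn P n T.obj₂) : PCn P n T.obj₃ := by
  obtain ⟨E₁, hE₁, ⟨e₁⟩⟩ := h₁
  obtain ⟨F₀, hF₀, ⟨e₂⟩⟩ := h₂
  obtain ⟨X, s, hs, g, hg⟩ := DerivedCategory.right_fac (e₁.hom ≫ T.mor₁ ≫ e₂.inv)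
  have hs' : QuasiIso s := (DerivedCategory.isIso_Q_map_iff_quasiIso (φ := s)).1 hs
  obtain ⟨b, hb⟩ := hE₁.1
  obtain ⟨L, u, hu, hL, -⟩ := qiso_of_pcn hA hqs hql X (n + 1) (max b n)
    ⟨E₁, hE₁, ⟨(asIso (DerivedCategory.Q.map s)).symm⟩⟩
    (fun j hj => (isZero_homology_of_quasiIso s j).2
      (isZero_homology_of_isZero_X _ _ (hb j (by omega)))) (by omega)
  have hus : IsIso (DerivedCategory.Q.map (u ≫ s)) := by rw [Functor.map_comp]; infer_instance
  let e := isoTriangleOfIso₁₂ _ T (DerivedCategory.mappingCone_triangle_distinguished (u ≫ g)) hT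
    ((@asIso _ _ _ _ (DerivedCategory.Q.map (u ≫ s)) hus) ≪≫ e₁) e₂ (by
      change DerivedCategory.Q.map (u ≫ g) ≫ e₂.hom = _
      have hgeq : DerivedCategory.Q.map g =
          DerivedCategory.Q.map s ≫ e₁.hom ≫ T.mor₁ ≫ e₂.inv := by rw [hg]; simp
      change _ = (DerivedCategory.Q.map (u ≫ s) ≫ e₁.hom) ≫ T.mor₁
      simp [hgeq])
  exact ⟨_, strictPC_cone hA (u ≫ g) n hL hF₀, ⟨Triangle.π₃.mapIso e⟩⟩

/-- two out of three: middle. -/
lemma pcn₂ (hA : Add P) (hqs : PCoh.IsQuasiStableUnderKernels P)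
    (hql : PCoh.IsQuasiLiftable P) (T : Triangle (DerivedCategory C)) (hT : T ∈ distTriang _)
    (n : ℤ) (h₁ : PCn P n T.obj₁) (h₃ : PCn P n T.obj₃) : PCn P n T.obj₂ :=
  pcn₃ hA hqs hql T.invRotate (inv_rot_of_distTriang _ hT) n
    (pcn_shift h₃ (-1) (n + 1) (by omega)) h₁

/-- two out of three: fibre. -/
lemma pcn₁ (hA : Add P) (hqs : PCoh.IsQuasiStableUnderKernels P)
    (hql : PCoh.IsQuasiLiftable P) (T : Triangle (DerivedCategory C)) (hT : T ∈ distTriang _)
    (n : ℤ) (h₂ : PCn P (n + 1) T.obj₂) (h₃ : PCn P n T.obj₃) : PCn P (n + 1) T.obj₁ :=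
  pcn₃ hA hqs hql T.invRotate.invRotate
    (inv_rot_of_distTriang _ (inv_rot_of_distTriang _ hT)) (n + 1)
    (pcn_shift h₂ (-1) (n + 1 + 1) (by omega)) (pcn_shift h₃ (-1) (n + 1) (by omega))

/-- S5603, backwards direction. -/
lemma pcn_of_ft (hA : Add P) (hql : PCoh.IsQuasiLiftable P) {X : DerivedCategory C} (n : ℤ)
    (hac : ∀ i, n < i → IsZero ((DerivedCategory.homologyFunctor C i).obj X))
    (hft : PCoh.IsOfFiniteType P ((DerivedCategory.homologyFunctor C n).obj X)) : PCn P n X := by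
  let K := DerivedCategory.Q.objPreimage X
  let e : DerivedCategory.Q.obj K ≅ X := DerivedCategory.Q.objObjPreimageIso X
  have hK : ∀ i, n + 1 ≤ i → IsZero (K.homology i) := fun i hi =>
    (isZero_H_iff K i).1 ((hac i (by omega)).of_iso ((DerivedCategory.homologyFunctor C i).mapIso e))
  have hft' : PCoh.IsOfFiniteType P (K.homology n) :=
    ft_of_iso ((DerivedCategory.homologyFunctor C n).mapIso e.symm ≪≫ hIso K n) hft
  have hz : IsZero (0 : CochainComplex C ℤ) := isZero_zero _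
  let A : App P (n + 1) n K := ⟨0, 0, fun j => hA.zero ((eval C _ j).map_isZero hz),
    fun j _ => (eval C _ j).map_isZero hz, fun j _ => (eval C _ j).map_isZero hz,
    nqiso_zero K hz _ (n + 1) hK⟩
  have : IsIso (CochainComplex.mappingCone.inr A.ℓ) := isIso_inr_zero K hz _
  obtain ⟨A', -⟩ := app_step hA hql le_rfl A
    (ft_of_iso ((homologyFunctor C _ n).mapIso (asIso (CochainComplex.mappingCone.inr A.ℓ))) hft')
  exact pcn_iso e (pcn_of_app hA A')

/-- S5603, forwards direction. -/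
lemma ft_of_pcn (hqs : PCoh.IsQuasiStableUnderKernels P) {X : DerivedCategory C} (n : ℤ)
    (hac : ∀ i, n < i → IsZero ((DerivedCategory.homologyFunctor C i).obj X))
    (h : PCn P n X) : PCoh.IsOfFiniteType P ((DerivedCategory.homologyFunctor C n).obj X) := by
  obtain ⟨E, hE, ⟨e⟩⟩ := h
  have := ft_homology_of_strictPC hqs n E hE (fun i hi => (isZero_H_iff E i).1
    ((hac i hi).of_iso ((DerivedCategory.homologyFunctor C i).mapIso e)))
  exact ft_of_iso ((hIso E n).symm ≪≫ (DerivedCategory.homologyFunctor C n).mapIso e) this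

/-- the obstruction of an approximation is of finite type. -/
lemma ft_cone (hA : Add P) (hqs : PCoh.IsQuasiStableUnderKernels P)
    (hql : PCoh.IsQuasiLiftable P) {L K : CochainComplex C ℤ} (f : L ⟶ K) (i : ℤ)
    (hL : PCn P (i + 1) (DerivedCategory.Q.obj L)) (hK : PCn P i (DerivedCategory.Q.obj K))
    (hf : NQIso f (i + 1)) : PCoh.IsOfFiniteType P ((mappingCone f).homology i) := by
  have := ft_of_pcn hqs i
    (fun j hj => (isZero_H_iff _ j).2 (hf j (by omega)))
    (pcn₃ hA hqs hql _ (DerivedCategory.mappingCone_triangle_distinguished f) i hL hK)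
  exact ft_of_iso (hIso _ i) this

end

end Groth.Agent.PCoh41
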