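import Groth.Agent.PCoh41.Approx
import Mathlib.Algebra.Homology.DerivedCategory.ShortExact
import Mathlib.Algebra.Homology.DerivedCategory.TStructure
import Mathlib.Algebra.Homology.HomologicalComplexAbelian
import Mathlib.Algebra.Homology.HomologicalComplexLimits

set_option autoImplicit false
universe w v u

open CategoryTheory CategoryTheory.Limits HomologicalComplex Pretriangulated

namespace Groth.Agent.PCoh41

variable {C : Type u} [Category.{v} C] [Abelian C] [HasDerivedCategory.{w} C] {P : ObjectProperty C}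

/-- `X[0]` is `n`-pseudo-coherent. -/
abbrev PObj (P : ObjectProperty C) (n : ℤ) (X : C) : Prop :=
  PCn P n ((DerivedCategory.singleFunctor C 0).obj X)

/-- `Q(X[i]) ≅ Q(X[0])⟦-i⟧`. -/
noncomputable def singleShiftIso (i : ℤ) (X : C) :
    ((DerivedCategory.singleFunctor C 0).obj X)⟦-i⟧ ≅
      DerivedCategory.Q.obj ((single C (ComplexShape.up ℤ) i).obj X) :=
  ((DerivedCategory.singleFunctors C).shiftIso (-i) i 0 (by omega)).app X

lemma pcn_single {n i : ℤ} {X : C} (h : PObj P (n - i) X) :
    PCn P n (DerivedCategory.Q.obj ((single C (ComplexShape.up ℤ) i).obj X)) :=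
  pcn_iso (singleShiftIso i X) (pcn_shift h (-i) n (by omega))

lemma pobj_of_prop (hA : Add P) {X : C} (hX : P X) (n : ℤ) : PObj P n X := by
  refine ⟨(single C (ComplexShape.up ℤ) 0).obj X, ⟨⟨0, fun i hi => ?_⟩, fun i _ => ?_⟩,
    ⟨Iso.refl _⟩⟩
  · exact isZero_single_obj_X _ 0 X i (by omega)
  · by_cases hi : i = 0
    · subst hi; exact hA.ofIso (singleObjXSelf (ComplexShape.up ℤ) 0 X).symm hX
    · exact hA.zero (isZero_single_obj_X _ 0 X i hi)

lemma isZero_H_single (i n : ℤ) (h : i ≠ n) (X : C) :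
    IsZero ((DerivedCategory.homologyFunctor C i).obj ((DerivedCategory.singleFunctor C n).obj X)) :=
  (isZero_H_iff ((single C (ComplexShape.up ℤ) n).obj X) i).2
    (isZero_single_obj_homology _ n X i h)

/-- `Hⁿ (X[n]) ≅ X`. -/
noncomputable def hSingleIso (n : ℤ) (X : C) :
    (DerivedCategory.homologyFunctor C n).obj ((DerivedCategory.singleFunctor C n).obj X) ≅ X :=
  hIso ((single C (ComplexShape.up ℤ) n).obj X) n ≪≫
    singleObjHomologySelfIso (ComplexShape.up ℤ) n X

lemma ft_of_pobj (hqs : PCoh.IsQuasiStableUnderKernels P) {X : C} {n : ℤ} (hn : n ≤ 0)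
    (h : PObj P n X) : PCoh.IsOfFiniteType P X :=
  ft_of_iso (hSingleIso 0 X)
    (ft_of_pcn hqs 0 (fun i hi => isZero_H_single i 0 (by omega) X) (pcn_mono hn h))

lemma pobj_zero_of_ft (hA : Add P) (hql : PCoh.IsQuasiLiftable P) {X : C}
    (h : PCoh.IsOfFiniteType P X) : PObj P 0 X :=
  pcn_of_ft hA hql 0 (fun i hi => isZero_H_single i 0 (by omega) X) (ft_of_iso (hSingleIso 0 X).symm h)

lemma pobj_of_pos (hA : Add P) {X : C} {n : ℤ} (hn : 0 < n) : PObj P n X :=
  pcn_of_acyclic hA 0 n hn (fun i hi => isZero_H_single i 0 (by omega) X)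

lemma pobj_iso {X Y : C} {n : ℤ} (e : X ≅ Y) (h : PObj P n X) : PObj P n Y :=
  pcn_iso ((DerivedCategory.singleFunctor C 0).mapIso e) h

/-- the triangle of a short exact sequence of objects, put in degree `0`. -/
lemma exists_triangle_of_shortExact (S : ShortComplex C) (hS : S.ShortExact) :
    ∃ T : Triangle (DerivedCategory C), T ∈ distTriang _ ∧
      T.obj₁ = (DerivedCategory.singleFunctor C 0).obj S.X₁ ∧
      T.obj₂ = (DerivedCategory.singleFunctor C 0).obj S.X₂ ∧
      T.obj₃ = (DerivedCategory.singleFunctor C 0).obj S.X₃ := by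
  have h' : (S.map (single C (ComplexShape.up ℤ) 0)).ShortExact := hS.map_of_exact _
  exact ⟨_, DerivedCategory.triangleOfSES_distinguished h', rfl, rfl, rfl⟩

lemma pobj₃ (hA : Add P) (hqs : PCoh.IsQuasiStableUnderKernels P) (hql : PCoh.IsQuasiLiftable P)
    (S : ShortComplex C) (hS : S.ShortExact) (n : ℤ) (h₁ : PObj P (n + 1) S.X₁)
    (h₂ : PObj P n S.X₂) : PObj P n S.X₃ := by
  obtain ⟨T, hT, e₁, e₂, e₃⟩ := exists_triangle_of_shortExact S hS
  have := pcn₃ hA hqs hql T hT n (by rw [e₁]; exact h₁) (by rw [e₂]; exact h₂)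
  rwa [e₃] at this

lemma pobj₁ (hA : Add P) (hqs : PCoh.IsQuasiStableUnderKernels P) (hql : PCoh.IsQuasiLiftable P)
    (S : ShortComplex C) (hS : S.ShortExact) (n : ℤ) (h₂ : PObj P (n + 1) S.X₂)
    (h₃ : PObj P n S.X₃) : PObj P (n + 1) S.X₁ := by
  obtain ⟨T, hT, e₁, e₂, e₃⟩ := exists_triangle_of_shortExact S hS
  have := pcn₁ hA hqs hql T hT n (by rw [e₂]; exact h₂) (by rw [e₃]; exact h₃)
  rwa [e₁] at this

/-- S5619: dévissage along terms. -/
lemma pcn_of_terms (hA : Add P) (hqs : PCoh.IsQuasiStableUnderKernels P)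
    (hql : PCoh.IsQuasiLiftable P) (n : ℤ) (F : CochainComplex C ℤ) (b : ℤ)
    (hb : ∀ i, b < i → IsZero (F.X i)) (hF : ∀ i, n ≤ i → PObj P (n - i) (F.X i)) :
    PCn P n (DerivedCategory.Q.obj F) := by
  suffices ∀ (k : ℕ) (b : ℤ), b - n < k → ∀ F : CochainComplex C ℤ,
      (∀ i, b < i → IsZero (F.X i)) → (∀ i, n ≤ i → PObj P (n - i) (F.X i)) →
      PCn P n (DerivedCategory.Q.obj F) by
    exact this ((b - n).toNat + 1) b (by omega) F hb hF
  intro k
  induction k with
  | zero =>
    intro b hbn F hb _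
    exact ⟨F, ⟨⟨b, hb⟩, fun i hi => hA.zero (hb i (by omega))⟩, ⟨Iso.refl _⟩⟩
  | succ k ih =>
    intro b hbn F hb hF
    by_cases h : b < n
    · exact ih b (by omega) F hb hF
    let ι : (single C (ComplexShape.up ℤ) b).obj (F.X b) ⟶ F :=
      mkHomFromSingle (𝟙 _) (fun j (hj : b + 1 = j) => (hb j (by omega)).eq_of_tgt _ _)
    have hι : ι.f b = (singleObjXSelf (ComplexShape.up ℤ) b (F.X b)).hom :=
      (mkHomFromSingle_f _ _).trans (Category.comp_id _)
    have : ∀ i, Mono (ι.f i) := fun i => by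
      by_cases hi : i = b
      · subst hi; rw [hι]; infer_instance
      · exact ⟨fun g h _ => (isZero_single_obj_X _ b (F.X b) i hi).eq_of_tgt _ _⟩
    have : Mono ι := mono_of_mono_f ι this
    let S := ShortComplex.mk ι (cokernel.π ι) (cokernel.condition ι)
    have hS : S.ShortExact := ShortComplex.ShortExact.mk (ShortComplex.exact_cokernel ι)
    have hSi : ∀ i, (S.map (eval C _ i)).ShortExact := fun i => hS.map_of_exact _
    have h₃ : ∀ i, b - 1 < i → IsZero ((cokernel ι).X i) := by
      intro i hi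
      have := (hSi i).epi_g
      rcases eq_or_lt_of_le (show b ≤ i by omega) with rfl | hi'
      · have : (cokernel.π ι).f b = 0 := by
          have h0 := congr_arg (fun t : _ ⟶ cokernel ι => t.f b) (cokernel.condition ι)
          simp only [comp_f, zero_f, hι] at h0
          exact (cancel_epi _).1 (h0.trans comp_zero.symm)
        exact IsZero.of_epi_eq_zero ((cokernel.π ι).f b) this
      · exact IsZero.of_epi ((cokernel.π ι).f i) (hb i hi')
    have h₃' : PCn P n (DerivedCategory.Q.obj (cokernel ι)) := by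
      refine ih (b - 1) (by omega) _ h₃ (fun i hi => ?_)
      by_cases hi' : b - 1 < i
      · exact pobj_iso ((isZero_zero C).iso (h₃ i hi')) (pobj_of_prop hA (hA.zero (isZero_zero C)) _)
      · have := (hSi i).epi_g
        have : Mono ((cokernel.π ι).f i) := (hSi i).exact.mono_g
          ((isZero_single_obj_X (ComplexShape.up ℤ) b (F.X b) i (by omega)).eq_of_src _ _)
        exact pobj_iso (@asIso _ _ _ _ ((cokernel.π ι).f i) (isIso_of_mono_of_epi _)) (hF i hi)
    exact pcn₂ hA hqs hql _ (DerivedCategory.triangleOfSES_distinguished hS) n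
      (pcn_single (hF b (by omega))) h₃'

/-- S5604: dévissage along cohomology. -/
lemma pcn_of_homology (hA : Add P) (hqs : PCoh.IsQuasiStableUnderKernels P)
    (hql : PCoh.IsQuasiLiftable P) (n : ℤ) (X : DerivedCategory C) (b : ℤ)
    (hb : ∀ i, b < i → IsZero ((DerivedCategory.homologyFunctor C i).obj X))
    (hX : ∀ i, n ≤ i → PObj P (n - i) ((DerivedCategory.homologyFunctor C i).obj X)) :
    PCn P n X := by
  suffices ∀ (k : ℕ) (b : ℤ), b - n < k → ∀ X : DerivedCategory C,
      (∀ i, b < i → IsZero ((DerivedCategory.homologyFunctor C i).obj X)) →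
      (∀ i, n ≤ i → PObj P (n - i) ((DerivedCategory.homologyFunctor C i).obj X)) → PCn P n X by
    exact this ((b - n).toNat + 1) b (by omega) X hb hX
  intro k
  induction k with
  | zero => exact fun b hbn X hb _ => pcn_of_acyclic hA b n (by omega) hb
  | succ k ih =>
    intro b hbn X hb hX
    by_cases h : b < n
    · exact ih b (by omega) X hb hX
    obtain ⟨A, B, hA', hB', f, g, δ, hT⟩ :=
      DerivedCategory.TStructure.t.exists_triangle X (b - 1) b (by omega)
    let H := DerivedCategory.homologyFunctor C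
    have hAz : ∀ i, b ≤ i → IsZero ((H i).obj A) := fun i hi =>
      @DerivedCategory.isZero_of_isLE _ _ _ _ A (b - 1) i (by omega) ⟨hA'⟩
    have hBz : ∀ i, i < b → IsZero ((H i).obj B) := fun i hi =>
      @DerivedCategory.isZero_of_isGE _ _ _ _ B b i hi ⟨hB'⟩
    have hBu : ∀ i, b < i → IsZero ((H i).obj B) := fun i hi =>
      (DerivedCategory.HomologySequence.exact₃ _ hT i (i + 1) rfl).isZero_X₂
        ((hb i hi).eq_of_src _ _) ((hAz (i + 1) (by omega)).eq_of_tgt _ _)
    have : B.IsGE b := ⟨hB'⟩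
    have : B.IsLE b := (DerivedCategory.isLE_iff B b).2 hBu
    obtain ⟨Y, ⟨e⟩⟩ := DerivedCategory.exists_iso_singleFunctor_obj_of_isGE_of_isLE B b
    have hiso : IsIso ((H b).map g) := by
      have : Mono ((H b).map g) :=
        (DerivedCategory.HomologySequence.mono_homologyMap_mor₂_iff _ hT b).2
          ((hAz b le_rfl).eq_of_src _ _)
      have : Epi ((H b).map g) :=
        (DerivedCategory.HomologySequence.epi_homologyMap_mor₂_iff _ hT b (b + 1) rfl).2
          ((hAz (b + 1) (by omega)).eq_of_tgt _ _)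
      exact isIso_of_mono_of_epi _
    have hB : PCn P n B := pcn_iso e.symm (pcn_single
      (pobj_iso (asIso ((H b).map g) ≪≫ (H b).mapIso e ≪≫ hSingleIso b Y) (hX b (by omega))))
    have hAX : ∀ i, i < b → IsIso ((H i).map f) := fun i hi => by
      have : Epi ((H i).map f) :=
        (DerivedCategory.HomologySequence.epi_homologyMap_mor₁_iff _ hT i).2
          ((hBz i hi).eq_of_tgt _ _)
      have : Mono ((H i).map f) :=
        (DerivedCategory.HomologySequence.mono_homologyMap_mor₁_iff _ hT (i - 1) i (by omega)).2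
          ((hBz (i - 1) (by omega)).eq_of_src _ _)
      exact isIso_of_mono_of_epi _
    refine pcn₂ hA hqs hql _ hT n (ih (b - 1) (by omega) A (fun i hi => hAz i (by omega))
      (fun i hi => ?_)) hB
    by_cases hib : i < b
    · have := hAX i hib
      exact pobj_iso (asIso ((H i).map f)).symm (hX i hi)
    · exact pobj_iso ((isZero_zero C).iso (hAz i (by omega)))
        (pobj_of_prop hA (hA.zero (isZero_zero C)) _)

end Groth.Agent.PCoh41
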