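import Groth.Agent.PCoh41.Cone

set_option autoImplicit false
set_option linter.unusedSimpArgs false
universe w v u

open CategoryTheory CategoryTheory.Limits HomologicalComplex
open CochainComplex (mappingCone)
open CochainComplex.HomComplex

namespace Groth.Agent.PCoh41

variable {C : Type u} [Category.{v} C] [Abelian C]
variable {E F L : CochainComplex C ℤ} (u : E ⟶ F) (ℓ : L ⟶ mappingCone u)

/-- component `L^i ⟶ E^j`, `j = i + 1`. -/
noncomputable def alpha (i j : ℤ) (h : i + 1 = j) : L.X i ⟶ E.X j :=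
  ℓ.f i ≫ (CochainComplex.mappingCone.fst u).1.v i j h

/-- component `L^i ⟶ F^i`. -/
noncomputable def beta (i : ℤ) : L.X i ⟶ F.X i :=
  ℓ.f i ≫ (CochainComplex.mappingCone.snd u).v i i (add_zero i)

lemma alpha_d (i j k : ℤ) (h : i + 1 = j) (h' : j + 1 = k) :
    alpha u ℓ i j h ≫ E.d j k = -(L.d i j ≫ alpha u ℓ j k h') := by
  rw [alpha, alpha, ← Hom.comm_assoc, CochainComplex.mappingCone.d_fst_v u i j k h h']
  simp [Category.assoc]

lemma beta_d (i j : ℤ) (h : i + 1 = j) :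
    beta u ℓ i ≫ F.d i j = L.d i j ≫ beta u ℓ j - alpha u ℓ i j h ≫ u.f j := by
  rw [alpha, beta, beta, ← Hom.comm_assoc, CochainComplex.mappingCone.d_snd_v u i j h]
  simp [Category.assoc]

noncomputable def extD (i : ℤ) : E.X i ⊞ L.X i ⟶ E.X (i + 1) ⊞ L.X (i + 1) :=
  biprod.desc (E.d i (i + 1) ≫ biprod.inl)
    (-(alpha u ℓ i (i + 1) rfl) ≫ biprod.inl + L.d i (i + 1) ≫ biprod.inr)

/-- The complex `E'` obtained by gluing `L` to `E`. -/
noncomputable def ext : CochainComplex C ℤ :=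
  CochainComplex.of (fun i => E.X i ⊞ L.X i) (extD u ℓ) (fun i => by
    unfold extD
    apply biprod.hom_ext' <;> simp [reassoc_of% (alpha_d u ℓ i (i + 1) (i + 1 + 1) rfl rfl)])

noncomputable def extInl (i : ℤ) : E.X i ⟶ (ext u ℓ).X i :=
  (biprod.inl : E.X i ⟶ E.X i ⊞ L.X i)

noncomputable def extInr (i : ℤ) : L.X i ⟶ (ext u ℓ).X i :=
  (biprod.inr : L.X i ⟶ E.X i ⊞ L.X i)

/-- desc out of `E'^i`. -/
noncomputable def extOut (i : ℤ) {T : C} (f : E.X i ⟶ T) (g : L.X i ⟶ T) : (ext u ℓ).X i ⟶ T :=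
  (biprod.desc f g : E.X i ⊞ L.X i ⟶ T)

@[reassoc (attr := simp)]
lemma extInl_extOut (i : ℤ) {T : C} (f : E.X i ⟶ T) (g : L.X i ⟶ T) :
    extInl u ℓ i ≫ extOut u ℓ i f g = f := biprod.inl_desc f g

@[reassoc (attr := simp)]
lemma extInr_extOut (i : ℤ) {T : C} (f : E.X i ⟶ T) (g : L.X i ⟶ T) :
    extInr u ℓ i ≫ extOut u ℓ i f g = g := biprod.inr_desc f g

lemma ext_hom_ext (i : ℤ) {T : C} {f g : (ext u ℓ).X i ⟶ T}
    (h₁ : extInl u ℓ i ≫ f = extInl u ℓ i ≫ g) (h₂ : extInr u ℓ i ≫ f = extInr u ℓ i ≫ g) :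
    f = g :=
  biprod.hom_ext' f g h₁ h₂

lemma ext_d (i : ℤ) : (ext u ℓ).d i (i + 1) =
    extOut u ℓ i (E.d i (i + 1) ≫ extInl u ℓ (i + 1))
      (-(alpha u ℓ i (i + 1) rfl) ≫ extInl u ℓ (i + 1) + L.d i (i + 1) ≫ extInr u ℓ (i + 1)) :=
  CochainComplex.of_d (fun i => E.X i ⊞ L.X i) (extD u ℓ) i

/-- `v : E ⟶ E'`. -/
noncomputable def extι : E ⟶ ext u ℓ where
  f i := extInl u ℓ i
  comm' i j (h : i + 1 = j) := by
    subst h
    simp [ext_d]

/-- `u' : E' ⟶ F`. -/
noncomputable def extDesc : ext u ℓ ⟶ F where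
  f i := extOut u ℓ i (u.f i) (beta u ℓ i)
  comm' i j (h : i + 1 = j) := by
    subst h
    apply ext_hom_ext <;> simp [ext_d, beta_d u ℓ i (i + 1) rfl, sub_eq_neg_add]

@[simp] lemma extι_f (i : ℤ) : (extι u ℓ).f i = extInl u ℓ i := rfl

@[simp] lemma extDesc_f (i : ℤ) : (extDesc u ℓ).f i = extOut u ℓ i (u.f i) (beta u ℓ i) := rfl

@[reassoc (attr := simp)]
lemma extι_extDesc : extι u ℓ ≫ extDesc u ℓ = u := by
  ext i
  simp

lemma mono_extι (i : ℤ) : Mono ((extι u ℓ).f i) :=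
  inferInstanceAs (Mono (biprod.inl : E.X i ⟶ E.X i ⊞ L.X i))

lemma isIso_extι (i : ℤ) (h : IsZero (L.X i)) : IsIso ((extι u ℓ).f i) :=
  ⟨extOut u ℓ i (𝟙 _) 0, extInl_extOut u ℓ i _ _, ext_hom_ext u ℓ i
    (by simp) (h.eq_of_src _ _)⟩

open CochainComplex.mappingCone in
/-- `cone u' ≅ cone ℓ`. -/
noncomputable def coneIso : mappingCone (extDesc u ℓ) ≅ mappingCone ℓ :=
  HomologicalComplex.Hom.isoOfComponents
    (fun i =>
      { hom :=
          (fst (extDesc u ℓ)).1.v i (i + 1) rfl ≫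
              extOut u ℓ (i + 1) ((inl u).v (i + 1) i (by omega) ≫ (inr ℓ).f i)
                ((inl ℓ).v (i + 1) i (by omega)) +
            (snd (extDesc u ℓ)).v i i (add_zero i) ≫ (inr u).f i ≫ (inr ℓ).f i
        inv :=
          (fst ℓ).1.v i (i + 1) rfl ≫ extInr u ℓ (i + 1) ≫
              (inl (extDesc u ℓ)).v (i + 1) i (by omega) +
            (snd ℓ).v i i (add_zero i) ≫
              ((fst u).1.v i (i + 1) rfl ≫ extInl u ℓ (i + 1) ≫
                  (inl (extDesc u ℓ)).v (i + 1) i (by omega) +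
                (snd u).v i i (add_zero i) ≫ (inr (extDesc u ℓ)).f i)
        hom_inv_id := by
          apply CochainComplex.mappingCone.ext_from _ (i + 1) i rfl
          · apply ext_hom_ext <;> simp
          · simp
        inv_hom_id := by
          apply CochainComplex.mappingCone.ext_from _ (i + 1) i rfl
          · simp
          · apply CochainComplex.mappingCone.ext_from _ (i + 1) i rfl <;> simp })
    (fun i j (h : i + 1 = j) => by
      subst h
      apply CochainComplex.mappingCone.ext_from _ (i + 1) i rfl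
      · apply CochainComplex.mappingCone.ext_to _ (i + 1) (i + 1 + 1) rfl
        · apply ext_hom_ext
          · simp [ext_d, inl_v_d_assoc (extDesc u ℓ) (i + 1) i (i + 1 + 1) (by omega) (by omega), inl_v_d_assoc u (i + 1) i (i + 1 + 1) (by omega) (by omega), inl_v_d_assoc ℓ (i + 1) i (i + 1 + 1) (by omega) (by omega), d_fst_v]
          · simp [ext_d, inl_v_d_assoc (extDesc u ℓ) (i + 1) i (i + 1 + 1) (by omega) (by omega), inl_v_d_assoc u (i + 1) i (i + 1 + 1) (by omega) (by omega), inl_v_d_assoc ℓ (i + 1) i (i + 1 + 1) (by omega) (by omega), d_fst_v, alpha]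
        · apply ext_hom_ext
          · apply CochainComplex.mappingCone.ext_to _ (i + 1) (i + 1 + 1) rfl <;>
              simp [ext_d, inl_v_d_assoc (extDesc u ℓ) (i + 1) i (i + 1 + 1) (by omega) (by omega), inl_v_d_assoc u (i + 1) i (i + 1 + 1) (by omega) (by omega), inl_v_d_assoc ℓ (i + 1) i (i + 1 + 1) (by omega) (by omega), d_snd_v, d_fst_v, alpha, beta]
          · apply CochainComplex.mappingCone.ext_to _ (i + 1) (i + 1 + 1) rfl <;>
              simp [ext_d, inl_v_d_assoc (extDesc u ℓ) (i + 1) i (i + 1 + 1) (by omega) (by omega), inl_v_d_assoc u (i + 1) i (i + 1 + 1) (by omega) (by omega), inl_v_d_assoc ℓ (i + 1) i (i + 1 + 1) (by omega) (by omega), d_snd_v, d_fst_v, alpha, beta]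
      · apply CochainComplex.mappingCone.ext_to _ (i + 1) (i + 1 + 1) rfl
        · simp [inr_f_d_assoc, d_fst_v]
        · apply CochainComplex.mappingCone.ext_to _ (i + 1) (i + 1 + 1) rfl <;>
            simp [inr_f_d_assoc, d_snd_v, d_fst_v])

lemma nqiso_extDesc {n : ℤ} (h : NQIso ℓ n) : NQIso (extDesc u ℓ) n := fun i hi =>
  (h i hi).of_iso ((homologyFunctor C _ i).mapIso (coneIso u ℓ))

lemma quasiIso_extDesc [QuasiIso ℓ] : QuasiIso (extDesc u ℓ) :=
  quasiIso_of_nqiso _ (fun n => nqiso_extDesc u ℓ (nqiso_of_quasiIso ℓ n))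

end Groth.Agent.PCoh41
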