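import Groth.Agent.PCoh41.Approx
import Mathlib.Algebra.Homology.HomologicalComplexLimits
import Mathlib.CategoryTheory.Limits.Constructions.EventuallyConstant
import Mathlib.CategoryTheory.Functor.OfSequence

set_option autoImplicit false
universe w v u

open CategoryTheory CategoryTheory.Limits HomologicalComplex
open CochainComplex (mappingCone)

namespace Groth.Agent.PCoh41

variable {C : Type u} [Category.{v} C] [Abelian C] {P : ObjectProperty C}

lemma isIso_map_of_succ {D : Type*} [Category D] (F : ℕ ⥤ D) (k₀ : ℕ)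
    (h : ∀ k, k₀ ≤ k → IsIso (F.map (homOfLE (Nat.le_add_right k 1)))) :
    F.IsEventuallyConstantFrom k₀ := by
  intro j f
  obtain ⟨m, rfl⟩ := Nat.exists_eq_add_of_le (leOfHom f)
  induction m with
  | zero =>
    rw [Subsingleton.elim f (𝟙 _)]
    infer_instance
  | succ m ih =>
    have := ih (homOfLE (Nat.le_add_right _ _))
    have := h (k₀ + m) (Nat.le_add_right _ _)
    rw [show f = homOfLE (Nat.le_add_right k₀ m) ≫ homOfLE (Nat.le_add_right (k₀ + m) 1) from
      Subsingleton.elim _ _, F.map_comp]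
    infer_instance

variable [HasDerivedCategory.{w} C]

/-- a quasi-isomorphism from a bounded above complex with all terms in `P`. -/
lemma exists_qiso_all (hA : Add P) (hqs : PCoh.IsQuasiStableUnderKernels P)
    (hql : PCoh.IsQuasiLiftable P) (K : CochainComplex C ℤ) (b : ℤ)
    (hK : ∀ m, PCn P m (DerivedCategory.Q.obj K)) (hb : ∀ j, b < j → IsZero (K.homology j)) :
    ∃ (L : CochainComplex C ℤ) (u : L ⟶ K), QuasiIso u ∧ (∀ i, P (L.X i)) ∧
      ∀ i, b < i → IsZero (L.X i) := by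
  have h0 : ∀ m : ℕ, ApproxLE P (b + 1 - m) b K := fun m =>
    approx_of_pcn hA hqs hql K _ b (hK _) hb (by omega)
  have hnext : ∀ (k : ℕ) (A : App P (b + 1 - (k : ℤ)) b K),
      ∃ (A' : App P (b + 1 - ((k + 1 : ℕ) : ℤ)) b K) (v : A.L ⟶ A'.L),
        v ≫ A'.ℓ = A.ℓ ∧ ∀ j, j ≠ b - k → IsIso (v.f j) := by
    intro k A
    have e : b + 1 - ((k + 1 : ℕ) : ℤ) = b - k := by push_cast; omega
    have e' : b + 1 - (k : ℤ) = b - k + 1 := by omega
    obtain ⟨A₁, hA₁⟩ : ∃ A₁ : App P (b - k + 1) b K, A₁.L = A.L ∧ HEq A₁.ℓ A.ℓ := by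
      rw [← e']; exact ⟨A, rfl, HEq.rfl⟩
    obtain ⟨L₁, ℓ₁, hP₁, hl₁, hu₁, hn₁⟩ := A₁
    obtain ⟨rfl, hℓ⟩ := hA₁
    obtain rfl := eq_of_heq hℓ
    obtain ⟨A', v, hv, hv'⟩ := app_step hA hql (i := b - k) (by omega)
      ⟨A.L, A.ℓ, hP₁, hl₁, hu₁, hn₁⟩
      (ft_cone hA hqs hql A.ℓ _ ⟨A.L, ⟨⟨b, hu₁⟩, fun j _ => hP₁ j⟩, ⟨Iso.refl _⟩⟩ (hK _) hn₁)
    rw [e]
    exact ⟨A', v, hv, hv'⟩
  choose next v hv hviso using hnext
  let st : ∀ k : ℕ, App P (b + 1 - (k : ℤ)) b K := fun k =>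
    Nat.rec (motive := fun k => App P (b + 1 - (k : ℤ)) b K) (h0 0).some next k
  let F : ℕ ⥤ CochainComplex C ℤ :=
    Functor.ofSequence (X := fun k => (st k).L) (fun k => v k (st k))
  have hF : ∀ (j : ℤ) (k₀ : ℕ), b - j < k₀ →
      (F ⋙ eval C _ j).IsEventuallyConstantFrom k₀ := fun j k₀ hk =>
    isIso_map_of_succ _ k₀ (fun k hk' => by
      change IsIso ((F.map _).f j)
      rw [Functor.ofSequence_map_homOfLE_succ]
      exact hviso k (st k) j (by omega))
  have : ∀ j, HasColimit (F ⋙ eval C _ j) := fun j =>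
    (hF j ((b - j).toNat + 1) (by omega)).hasColimit
  let ℓ : F ⟶ (Functor.const ℕ).obj K :=
    NatTrans.ofSequence (fun k => (st k).ℓ) (fun k => by
      rw [Functor.ofSequence_map_homOfLE_succ]
      exact (hv k (st k)).trans (Category.comp_id _).symm)
  let u : colimit F ⟶ K := colimit.desc F ⟨K, ℓ⟩
  have hι : ∀ (j : ℤ) (k : ℕ), b - j < k → IsIso ((colimit.ι F k).f j) := fun j k hk =>
    (hF j k hk).isIso_ι_of_isColimit (isColimitOfPreserves (eval C _ j) (colimit.isColimit F))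
  refine ⟨colimit F, u, ⟨fun i => ?_⟩, fun i => ?_, fun i hi => ?_⟩
  · let k := (b - i).toNat + 2
    have h1 : IsIso ((colimit.ι F k).f (i - 1)) := hι _ k (by omega)
    have h2 : IsIso ((colimit.ι F k).f i) := hι _ k (by omega)
    have h3 : IsIso ((colimit.ι F k).f (i + 1)) := hι _ k (by omega)
    have hq : QuasiIsoAt (colimit.ι F k) i := by
      rw [quasiIsoAt_iff' _ (i - 1) i (i + 1) (by simp) (by simp)]
      let φ := (shortComplexFunctor' C _ (i - 1) i (i + 1)).map (colimit.ι F k)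
      have : IsIso φ.τ₁ := h1
      have : IsIso φ.τ₂ := h2
      have : IsIso φ.τ₃ := h3
      exact ShortComplex.quasiIso_of_epi_of_isIso_of_mono φ
    have hst : QuasiIsoAt (st k).ℓ i :=
      (quasiIsoAt_iff_isIso_homologyMap _ _).2 (((nqiso_iff _ _).1 (st k).hn).1 i (by omega))
    have hcomp : colimit.ι F k ≫ u = (st k).ℓ := colimit.ι_desc _ _
    exact (quasiIsoAt_iff_comp_left (colimit.ι F k) u i).1 (hcomp.symm ▸ hst)
  · have := hι i ((b - i).toNat + 1) (by omega)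
    exact hA.ofIso (asIso ((colimit.ι F ((b - i).toNat + 1)).f i)) ((st ((b - i).toNat + 1)).hP i)
  · have := hι i 0 (by omega)
    exact ((st 0).hup i hi).of_iso (asIso ((colimit.ι F 0).f i)).symm

end Groth.Agent.PCoh41
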