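import Groth.Agent.PCoh41.Limit
import Mathlib.Algebra.Homology.DerivedCategory.KProjective
import Mathlib.Algebra.Homology.HomologicalComplexBiprod

set_option autoImplicit false
universe w v u

open CategoryTheory CategoryTheory.Limits HomologicalComplex Pretriangulated
open CochainComplex (mappingCone)

namespace Groth.Agent.PCoh41

variable {C : Type u} [Category.{v} C] [Abelian C] {P : ObjectProperty C}

lemma projective_of_lift (hlift : ∀ (E F : C) (u : E ⟶ F), Epi u → P F → IsSplitEpi u) {X : C}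
    (hX : P X) : Projective X where
  factors f e := by
    intro he
    have := hlift _ _ (pullback.snd e f) inferInstance hX
    exact ⟨section_ (pullback.snd e f) ≫ pullback.fst e f, by simp [pullback.condition]⟩

lemma ql_of_lift (hlift : ∀ (E F : C) (u : E ⟶ F), Epi u → P F → IsSplitEpi u) :
    PCoh.IsQuasiLiftable P := fun E F u hu hF => by
  have := hlift E F u hu hF
  exact ⟨F, section_ u, hF, by rw [IsSplitEpi.id]; infer_instance⟩

lemma prop_X₁ (hA : Add P) (hst : ∀ (E F : C) (u : E ⟶ F), Epi u → P E → P F → P (kernel u))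
    (S : ShortComplex C) (hS : S.ShortExact) (h₂ : P S.X₂) (h₃ : P S.X₃) : P S.X₁ := by
  have := hS.mono_f
  exact hA.ofIso (IsLimit.conePointUniqueUpToIso hS.exact.fIsKernel (kernelIsKernel S.g)).symm
    (hst _ _ S.g hS.epi_g h₂ h₃)

lemma qs_of_stable (hA : Add P) (hst : ∀ (E F : C) (u : E ⟶ F), Epi u → P E → P F → P (kernel u)) :
    PCoh.IsQuasiStableUnderKernels P := by
  intro K hK ⟨c, hc⟩ hP
  have h1 : P (K.cycles 1) := cycles_induction_nat K P hA.zero
    (prop_X₁ hA hst) 1 c hc (fun i _ => hK i) hP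
  have h0 : IsZero (K.cycles 0) :=
    (((K.exactAt_iff_isZero_homology 0).1 (hK 0))).of_iso
      (K.isoHomologyπ 0 0 (by simp) (K.shape 0 0 (by simp)))
  have hS := cyclesSC_shortExact K 0 1 rfl (hK 1)
  have := hS.epi_g
  have : Mono (cyclesSC K 0 1).g := hS.exact.mono_g (h0.eq_of_src _ _)
  exact ft_of_iso (@asIso _ _ _ _ (cyclesSC K 0 1).g (isIso_of_mono_of_epi _)).symm (ft_of_prop h1)

/-- `opcycles` of a biproduct. -/
noncomputable def opcyclesBiprodIso (K L : CochainComplex C ℤ) (i : ℤ) :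
    (K ⊞ L).opcycles i ≅ K.opcycles i ⊞ L.opcycles i where
  hom := biprod.lift (opcyclesMap biprod.fst i) (opcyclesMap biprod.snd i)
  inv := biprod.desc (opcyclesMap biprod.inl i) (opcyclesMap biprod.inr i)
  hom_inv_id := by
    rw [← cancel_epi ((K ⊞ L).pOpcycles i)]
    simp only [biprod.lift_desc, ← opcyclesMap_comp, Preadditive.comp_add, p_opcyclesMap,
      Category.comp_id, ← Preadditive.add_comp, ← add_f_apply, biprod.total, id_f, Category.id_comp]
  inv_hom_id := by
    apply biprod.hom_ext' <;> apply biprod.hom_ext <;> simp [← opcyclesMap_comp]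

variable [HasDerivedCategory.{w} C]

lemma exists_chainMap (K : CochainComplex C ℤ) (L : CochainComplex C ℤ)
    (hP : ∀ i, Projective (K.X i)) (d : ℤ) (hd : ∀ i, d < i → IsZero (K.X i))
    (α : DerivedCategory.Q.obj K ⟶ DerivedCategory.Q.obj L) :
    ∃ φ : K ⟶ L, DerivedCategory.Q.map φ = α := by
  have : K.IsStrictlyLE d := (K.isStrictlyLE_iff d).2 hd
  have := CochainComplex.isKProjective_of_projective K d
  let e := DerivedCategory.quotientCompQhIso C
  obtain ⟨ψ, hψ⟩ := (CochainComplex.IsKProjective.Qh_map_bijective K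
    ((HomotopyCategory.quotient C _).obj L)).2 (e.hom.app K ≫ α ≫ e.inv.app L)
  obtain ⟨φ, rfl⟩ := (HomotopyCategory.quotient C _).map_surjective ψ
  exact ⟨φ, by
    have := e.hom.naturality φ
    simp only [Functor.comp_map] at this
    rw [hψ, Category.assoc, Category.assoc, Iso.inv_hom_id_app] at this
    simpa using this.symm⟩

lemma exists_perfect_cone (hA : Add P)
    (hlift : ∀ (E F : C) (u : E ⟶ F), Epi u → P F → IsSplitEpi u)
    (T : Triangle (DerivedCategory C)) (hT : T ∈ distTriang _)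
    (E F : CochainComplex C ℤ) (a b : ℤ) (hE : ∀ i, i < a ∨ b < i → IsZero (E.X i))
    (hPE : ∀ i, P (E.X i)) (a' b' : ℤ) (hF : ∀ i, i < a' ∨ b' < i → IsZero (F.X i))
    (hPF : ∀ i, P (F.X i)) (e₁ : DerivedCategory.Q.obj E ≅ T.obj₁)
    (e₂ : DerivedCategory.Q.obj F ≅ T.obj₂) :
    ∃ (G : CochainComplex C ℤ) (c d : ℤ), (∀ i : ℤ, i < c ∨ d < i → IsZero (G.X i)) ∧
      (∀ i : ℤ, P (G.X i)) ∧ Nonempty (DerivedCategory.Q.obj G ≅ T.obj₃) := by
  obtain ⟨φ, hφ⟩ := exists_chainMap E F (fun i => projective_of_lift hlift (hPE i)) b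
    (fun i hi => hE i (Or.inr hi)) (e₁.hom ≫ T.mor₁ ≫ e₂.inv)
  refine ⟨mappingCone φ, min (a - 1) a', max b b', fun i hi => ?_,
    fun i => coneX_prop hA φ i (hPE _) (hPF _),
    ⟨Triangle.π₃.mapIso (isoTriangleOfIso₁₂ _ T
      (DerivedCategory.mappingCone_triangle_distinguished φ) hT e₁ e₂ ?_)⟩⟩
  · exact (CochainComplex.mappingCone.isZero_X_iff φ i).2 ⟨hE _ (by omega), hF _ (by omega)⟩
  · change DerivedCategory.Q.map φ ≫ e₂.hom = e₁.hom ≫ T.mor₁
    simp [hφ]

/-- truncation of a perfect complex with vanishing cohomology above `b`. -/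
lemma truncLE_perfect (hA : Add P)
    (hst : ∀ (E F : C) (u : E ⟶ F), Epi u → P E → P F → P (kernel u))
    (a b c : ℤ) (hab : a ≤ b) (F : CochainComplex C ℤ)
    (hP : ∀ i : ℤ, P (F.X i)) (hvan : ∀ i : ℤ, i < a ∨ c < i → IsZero (F.X i))
    (hcoh : ∀ i : ℤ, b < i → IsZero (F.homology i)) :
    ∃ F' : CochainComplex C ℤ, (∀ i : ℤ, P (F'.X i)) ∧
      (∀ i : ℤ, i < a ∨ min b c < i → IsZero (F'.X i)) ∧
      Nonempty (DerivedCategory.Q.obj F' ≅ DerivedCategory.Q.obj F) := by
  by_cases hcb : c ≤ b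
  · exact ⟨F, hP, fun i hi => hvan i (by omega), ⟨Iso.refl _⟩⟩
  have hF : F.IsLE b := (F.isLE_iff b).2 (fun i hi => (F.exactAt_iff_isZero_homology i).2 (hcoh i hi))
  have hZ : P (F.cycles b) := cycles_induction F P hA.zero (prop_X₁ hA hst) b c
    (fun i hi => hvan i (Or.inr hi)) (fun i hi => (F.exactAt_iff_isZero_homology i).2 (hcoh i hi))
    (fun i _ => hP i)
  refine ⟨F.truncLE b, fun i => ?_, fun i hi => ?_,
    ⟨asIso (DerivedCategory.Q.map (F.ιTruncLE b))⟩⟩
  · rcases lt_trichotomy i b with h | rfl | h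
    · exact hA.ofIso (CochainComplex.truncLEXIso F b i h).symm (hP i)
    · exact hA.ofIso (CochainComplex.truncLEXIsoCycles F i).symm hZ
    · exact hA.zero (CochainComplex.isZero_of_isStrictlyLE _ b i h)
  · rcases lt_or_ge b i with h | h
    · exact CochainComplex.isZero_of_isStrictlyLE _ b i h
    · rcases eq_or_lt_of_le h with rfl | h'
      · omega
      · exact (hvan i (by omega)).of_iso (CochainComplex.truncLEXIso F b i h')

/-- S5621: the first term of a complex of perfect amplitude `[a, b]`. -/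
lemma prop_first_term (hA : Add P)
    (hlift : ∀ (E F : C) (u : E ⟶ F), Epi u → P F → IsSplitEpi u)
    (hst : ∀ (E F : C) (u : E ⟶ F), Epi u → P E → P F → P (kernel u))
    (a b : ℤ) (F : CochainComplex C ℤ) (hvan : ∀ i : ℤ, i < a ∨ b < i → IsZero (F.X i))
    (hP : ∀ i : ℤ, a < i → P (F.X i)) (E : CochainComplex C ℤ) (hPE : ∀ i : ℤ, P (E.X i))
    (hE : ∀ i : ℤ, i < a ∨ b < i → IsZero (E.X i))
    (e : DerivedCategory.Q.obj E ≅ DerivedCategory.Q.obj F) : P (F.X a) := by
  obtain ⟨φ, hφ⟩ := exists_chainMap E F (fun i => projective_of_lift hlift (hPE i)) b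
    (fun i hi => hE i (Or.inr hi)) e.hom
  have : QuasiIso φ := (DerivedCategory.isIso_Q_map_iff_quasiIso (φ := φ)).1
    (by rw [hφ]; infer_instance)
  have hex : ∀ i, (mappingCone φ).ExactAt i := fun i =>
    (exactAt_iff_isZero_homology _ _).2 (nqiso_of_quasiIso φ i i le_rfl)
  have hz : ∀ i, i < a - 1 ∨ b < i → IsZero ((mappingCone φ).X i) := fun i hi =>
    (CochainComplex.mappingCone.isZero_X_iff φ i).2 ⟨hE _ (by omega), hvan _ (by omega)⟩
  have h1 : P ((mappingCone φ).cycles (a + 1)) := cycles_induction (mappingCone φ) P hA.zero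
    (prop_X₁ hA hst) (a + 1) b (fun i hi => hz i (Or.inr hi)) (fun i _ => hex i)
    (fun i hi => coneX_prop hA φ i (hPE _) (hP i (by omega)))
  have h0 : P ((mappingCone φ).cycles a) := by
    have hS := cyclesSC_shortExact (mappingCone φ) (a - 1) a (by simp) (hex a)
    have h2 : IsZero ((mappingCone φ).cycles (a - 1)) :=
      ((exactAt_iff_isZero_homology _ _).1 (hex (a - 1))).of_iso
        ((mappingCone φ).isoHomologyπ (a - 2) (a - 1) (by simp; omega)
          ((hz (a - 2) (by omega)).eq_of_src _ _))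
    have hepi := hS.epi_g
    have hmono := hS.exact.mono_g (h2.eq_of_src (cyclesSC (mappingCone φ) (a - 1) a).f 0)
    exact hA.ofIso (@asIso _ _ _ _ (cyclesSC (mappingCone φ) (a - 1) a).g
      (@isIso_of_mono_of_epi _ _ _ _ _ _ hmono hepi))
      (coneX_prop hA φ (a - 1) (hPE _) (hA.zero (hvan _ (by omega))))
  have hS := cyclesSC_shortExact (mappingCone φ) a (a + 1) rfl (hex _)
  have : Projective (cyclesSC (mappingCone φ) a (a + 1)).X₃ := projective_of_lift hlift h1
  have hM : P ((mappingCone φ).X a) :=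
    hA.ofIso hS.splittingOfProjective.isoBinaryBiproduct.symm (hA.biprod h0 h1)
  exact hA.ofIso (kernelBiprodFstIso (X := E.X (a + 1)) (Y := F.X a))
    (hst _ _ biprod.fst inferInstance (hA.ofIso (homotopyCofiber.XIsoBiprod φ a (a + 1) rfl) hM)
      (hPE (a + 1)))

end Groth.Agent.PCoh41
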