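import Groth.Agent.PCoh41.Devissage

set_option autoImplicit false
universe w v u

open CategoryTheory CategoryTheory.Limits HomologicalComplex
open scoped ZeroObject

namespace Groth.Agent.PCoh41

variable {C : Type u} [Category.{v} C] [Abelian C] {P : ObjectProperty C}

/-- objects of a spliced complex `⋯ → K₂ → K₁ → E → F`. -/
def spliceX (F E : C) (K : ChainComplex C ℕ) : ℕ → C
  | 0 => F
  | 1 => E
  | j + 2 => K.X (j + 1)

/-- differentials of a spliced complex. -/
def spliceD {F E : C} (π : E ⟶ F) (K : ChainComplex C ℕ) (g : K.X 0 ⟶ E) :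
    ∀ j : ℕ, spliceX F E K (j + 1) ⟶ spliceX F E K j
  | 0 => π
  | 1 => K.d 1 0 ≫ g
  | j + 2 => K.d (j + 2) (j + 1)

/-- the spliced complex. -/
noncomputable def splice {F E : C} (π : E ⟶ F) (K : ChainComplex C ℕ) (g : K.X 0 ⟶ E)
    (hg : g ≫ π = 0) : ChainComplex C ℕ :=
  ChainComplex.of (spliceX F E K) (spliceD π K g) (fun j => by
    rcases j with _ | _ | j
    · exact (Category.assoc _ _ _).trans ((congrArg (fun t => K.d 1 0 ≫ t) hg).trans comp_zero)
    · exact (Category.assoc _ _ _).symm.trans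
        ((congrArg (fun t => t ≫ g) (K.d_comp_d 2 1 0)).trans zero_comp)
    · exact K.d_comp_d _ _ _)

lemma splice_d {F E : C} (π : E ⟶ F) (K : ChainComplex C ℕ) (g : K.X 0 ⟶ E) (hg : g ≫ π = 0)
    (j : ℕ) : (splice π K g hg).d (j + 1) j = spliceD π K g j :=
  ChainComplex.of_d (spliceX F E K) (spliceD π K g) j

variable [HasDerivedCategory.{w} C]

/-- `n`-presentations give pseudo-coherence. -/
lemma pobj_of_presentation (hA : Add P) (hqs : PCoh.IsQuasiStableUnderKernels P)
    (hql : PCoh.IsQuasiLiftable P) (n : ℕ) (K : ChainComplex C ℕ)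
    (hK : ∀ j : ℕ, j ≤ n → K.ExactAt j) (hP : ∀ j : ℕ, 1 ≤ j → j ≤ n + 1 → P (K.X j)) :
    PObj P (-(n : ℤ)) (K.X 0) := by
  suffices ∀ (m j : ℕ), j + m = n → PObj P (-(m : ℤ)) (K.cycles j) by
    exact pobj_iso (K.iCyclesIso 0 0 (by simp) (K.shape _ _ (by simp))) (this n 0 (by omega))
  intro m
  induction m with
  | zero =>
    intro j hj
    have hS := cyclesSC_shortExact K (j + 1) j rfl (hK j (by omega))
    have := hS.epi_g
    exact pobj_zero_of_ft hA hql
      (@ft_of_epi _ _ _ _ _ _ (cyclesSC K (j + 1) j).g hS.epi_g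
        (ft_of_prop (hP (j + 1) (by omega) (by omega))))
  | succ m ih =>
    intro j hj
    exact pobj₃ hA hqs hql _ (cyclesSC_shortExact K (j + 1) j rfl (hK j (by omega))) _
      (pcn_mono (by push_cast; omega) (ih (j + 1) (by omega)))
      (pobj_of_prop hA (hP (j + 1) (by omega) (by omega)) _)

/-- pseudo-coherence gives `n`-presentations. -/
lemma presentation_of_pobj (hA : Add P) (hqs : PCoh.IsQuasiStableUnderKernels P)
    (hql : PCoh.IsQuasiLiftable P) (n : ℕ) (F : C) (h : PObj P (-(n : ℤ)) F) :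
    ∃ K : ChainComplex C ℕ, Nonempty (K.X 0 ≅ F) ∧ (∀ j : ℕ, j ≤ n → K.ExactAt j) ∧
      (∀ j : ℕ, n + 1 < j → IsZero (K.X j)) ∧ (∀ j : ℕ, 1 ≤ j → j ≤ n + 1 → P (K.X j)) := by
  induction n generalizing F with
  | zero =>
    obtain ⟨E, π, hE, hπ⟩ := ft_of_pobj hqs (by simp) h
    let K₀ := (ChainComplex.single₀ C).obj (0 : C)
    have hz : ∀ j, IsZero (K₀.X j) := fun j =>
      (eval C _ j).map_isZero ((ChainComplex.single₀ C).map_isZero (isZero_zero C))
    refine ⟨splice π K₀ 0 zero_comp, ⟨Iso.refl _⟩, fun j hj => ?_, fun j hj => ?_, fun j h1 h2 => ?_⟩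
    · obtain rfl : j = 0 := by omega
      rw [exactAt_iff' _ 1 0 0 (by simp) (by simp),
        ShortComplex.exact_iff_epi _ ((splice π K₀ 0 zero_comp).shape 0 0 (by simp))]
      change Epi ((splice π K₀ 0 zero_comp).d (0 + 1) 0)
      rw [splice_d]
      exact hπ
    · obtain ⟨j, rfl⟩ : ∃ i, j = i + 2 := ⟨j - 2, by omega⟩
      exact hz (j + 1)
    · obtain rfl : j = 1 := by omega
      exact hE
  | succ n ih =>
    obtain ⟨E, π, hE, hπ⟩ := ft_of_pobj hqs (by omega) h
    let S := ShortComplex.mk (kernel.ι π) π (kernel.condition π)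
    have hS : S.ShortExact := ShortComplex.ShortExact.mk (ShortComplex.exact_kernel π)
    obtain ⟨K, ⟨e⟩, hex, hz, hP⟩ := ih (kernel π) (pcn_mono (by push_cast; omega)
      (pobj₁ hA hqs hql S hS _ (pobj_of_prop hA hE _) h))
    let g := e.hom ≫ kernel.ι π
    have hg : g ≫ π = 0 := by simp [g]
    have hepi : Epi (K.d 1 0) := by
      have := (K.exactAt_iff' 1 0 0 (by simp) (by simp)).1 (hex 0 (Nat.zero_le _))
      exact ((K.sc' 1 0 0).exact_iff_epi (K.shape 0 0 (by simp))).1 this
    refine ⟨splice π K g hg, ⟨Iso.refl _⟩, fun j hj => ?_, fun j hj => ?_, fun j h1 h2 => ?_⟩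
    · have hd := splice_d π K g hg
      match j with
      | 0 =>
        rw [exactAt_iff' _ 1 0 0 (by simp) (by simp),
          ShortComplex.exact_iff_epi _ ((splice π K g hg).shape 0 0 (by simp))]
        change Epi ((splice π K g hg).d (0 + 1) 0)
        rw [hd]
        exact hπ
      | 1 =>
        rw [exactAt_iff' _ (1 + 1) 1 0 (by simp) (by simp)]
        have hex' : (ShortComplex.mk (K.d 1 0 ≫ g) π (by simp [g])).Exact := by
          rw [ShortComplex.exact_iff_exact_up_to_refinements]
          intro A x hx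
          obtain ⟨A', q, hq, y, hy⟩ := surjective_up_to_refinements_of_epi (K.d 1 0)
            (kernel.lift π x hx ≫ e.inv)
          refine ⟨A', q, hq, y, ?_⟩
          have hy' := hy =≫ g
          dsimp
          simpa [g, Category.assoc] using hy'
        exact (ShortComplex.exact_iff_of_iso (ShortComplex.isoMk
          (S₁ := ShortComplex.mk (K.d 1 0 ≫ g) π (by simp [g]))
          (S₂ := (splice π K g hg).sc' (1 + 1) 1 0)
          (Iso.refl _) (Iso.refl _) (Iso.refl _)
          ((Category.id_comp _).trans ((hd 1).trans (Category.comp_id _).symm))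
          ((Category.id_comp _).trans ((hd 0).trans (Category.comp_id _).symm)))).1 hex'
      | 2 =>
        change ExactAt _ (1 + 1)
        rw [exactAt_iff' _ (2 + 1) (1 + 1) 1 (by simp) (by simp)]
        have hk : (K.sc' 2 1 0).Exact := (K.exactAt_iff' 2 1 0 (by simp) (by simp)).1 (hex 1 (by omega))
        have : Mono g := mono_comp _ _
        have hex' : (ShortComplex.mk (K.d 2 1) (K.d 1 0 ≫ g) (by simp)).Exact := by
          rw [ShortComplex.exact_iff_exact_up_to_refinements]
          intro A x hx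
          have hx' : x ≫ K.d 1 0 = 0 := by
            exact (cancel_mono g).1 ((Category.assoc _ _ _).trans (hx.trans zero_comp.symm))
          exact hk.exact_up_to_refinements x hx'
        exact (ShortComplex.exact_iff_of_iso (ShortComplex.isoMk
          (S₁ := ShortComplex.mk (K.d 2 1) (K.d 1 0 ≫ g) (by simp))
          (S₂ := (splice π K g hg).sc' (2 + 1) (1 + 1) 1)
          (Iso.refl _) (Iso.refl _) (Iso.refl _)
          ((Category.id_comp _).trans ((hd 2).trans (Category.comp_id _).symm))
          ((Category.id_comp _).trans ((hd 1).trans (Category.comp_id _).symm)))).1 hex'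
      | j + 3 =>
        rw [exactAt_iff' _ (j + 3 + 1) (j + 2 + 1) (j + 2) (by simp) (by simp)]
        have hk : (K.sc' (j + 3) (j + 2) (j + 1)).Exact :=
          (K.exactAt_iff' _ _ _ (by simp) (by simp)).1 (hex (j + 2) (by omega))
        exact (ShortComplex.exact_iff_of_iso (ShortComplex.isoMk
          (S₁ := K.sc' (j + 3) (j + 2) (j + 1))
          (S₂ := (splice π K g hg).sc' (j + 3 + 1) (j + 2 + 1) (j + 2))
          (Iso.refl _) (Iso.refl _) (Iso.refl _)
          ((Category.id_comp _).trans ((hd (j + 3)).trans (Category.comp_id _).symm))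
          ((Category.id_comp _).trans ((hd (j + 2)).trans (Category.comp_id _).symm)))).1 hk
    · obtain ⟨j, rfl⟩ : ∃ i, j = i + 2 := ⟨j - 2, by omega⟩
      exact hz (j + 1) (by omega)
    · match j with
      | 1 => exact hE
      | j + 2 => exact hP (j + 1) (by omega) (by omega)

end Groth.Agent.PCoh41
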