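import Groth.Agent.PCoh41.Approx
import Mathlib.Algebra.Homology.HomologicalComplexBiprod
import Mathlib.CategoryTheory.Triangulated.Pretriangulated

set_option autoImplicit false
universe w v u

open CategoryTheory CategoryTheory.Limits HomologicalComplex Pretriangulated
open CochainComplex (mappingCone)

namespace Groth.Agent.PCoh41

variable {C : Type u} [Category.{v} C] [Abelian C] {P : ObjectProperty C}

lemma map_biprod_map {A B : Type*} [Category A] [Category B] [Preadditive A] [Preadditive B]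
    [HasBinaryBiproducts A] [HasBinaryBiproducts B] (G : A ⥤ B) [G.Additive] [PreservesBinaryBiproducts G]
    {X X' Y Y' : A} (f : X ⟶ Y) (g : X' ⟶ Y') :
    G.map (biprod.map f g) =
      (G.mapBiprod X X').hom ≫ biprod.map (G.map f) (G.map g) ≫ (G.mapBiprod Y Y').inv := by
  rw [← Category.assoc, Iso.eq_comp_inv]
  simp only [Functor.mapBiprod_hom]
  apply biprod.hom_ext
  · simp only [Category.assoc, biprod.lift_fst, biprod.map_fst, biprod.lift_fst_assoc]
    rw [← Functor.map_comp, ← Functor.map_comp, biprod.map_fst]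
  · simp only [Category.assoc, biprod.lift_snd, biprod.map_snd, biprod.lift_snd_assoc]
    rw [← Functor.map_comp, ← Functor.map_comp, biprod.map_snd]

lemma nqiso_biprod {L M K K' : CochainComplex C ℤ} (f : L ⟶ K) (g : M ⟶ K') {n : ℤ}
    (hf : NQIso f n) (hg : NQIso g n) : NQIso (biprod.map f g) n := by
  rw [nqiso_iff] at hf hg ⊢
  have : ∀ i, PreservesBinaryBiproducts (homologyFunctor C (ComplexShape.up ℤ) i) := fun i =>
    preservesBinaryBiproducts_of_preservesBiproducts _
  refine ⟨fun i hi => ?_, ?_⟩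
  · have : IsIso ((homologyFunctor C (ComplexShape.up ℤ) i).map f) := hf.1 i hi
    have : IsIso ((homologyFunctor C (ComplexShape.up ℤ) i).map g) := hg.1 i hi
    change IsIso ((homologyFunctor C (ComplexShape.up ℤ) i).map (biprod.map f g))
    have : IsIso (biprod.map ((homologyFunctor C (ComplexShape.up ℤ) i).map f)
        ((homologyFunctor C (ComplexShape.up ℤ) i).map g)) :=
      (biprod.mapIso (asIso ((homologyFunctor C (ComplexShape.up ℤ) i).map f))
        (asIso ((homologyFunctor C (ComplexShape.up ℤ) i).map g))).isIso_hom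
    rw [map_biprod_map]; infer_instance
  · have : Epi ((homologyFunctor C (ComplexShape.up ℤ) n).map f) := hf.2
    have : Epi ((homologyFunctor C (ComplexShape.up ℤ) n).map g) := hg.2
    change Epi ((homologyFunctor C (ComplexShape.up ℤ) n).map (biprod.map f g))
    rw [map_biprod_map]; infer_instance

lemma ft_cone_left {L M K K' : CochainComplex C ℤ} (f : L ⟶ K) (g : M ⟶ K') (i : ℤ)
    (h : PCoh.IsOfFiniteType P ((mappingCone (biprod.map f g)).homology i)) :
    PCoh.IsOfFiniteType P ((mappingCone f).homology i) := by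
  let p := CochainComplex.mappingCone.map (biprod.map f g) f biprod.fst biprod.fst (by simp)
  let j := CochainComplex.mappingCone.map f (biprod.map f g) biprod.inl biprod.inl (by simp)
  have hjp : j ≫ p = 𝟙 _ := by
    ext k
    apply CochainComplex.mappingCone.ext_from _ (k + 1) k rfl <;>
      simp [j, p, CochainComplex.mappingCone.map, ← comp_f_assoc]
  have : IsSplitEpi (homologyMap p i) :=
    ⟨⟨⟨homologyMap j i, by rw [← homologyMap_comp, hjp, homologyMap_id]⟩⟩⟩
  exact ft_of_epi (homologyMap p i) h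

lemma strictPC_biprod (hA : Add P) {E E' : CochainComplex C ℤ} {n : ℤ}
    (h : PCoh.IsStrictPC P n E) (h' : PCoh.IsStrictPC P n E') :
    PCoh.IsStrictPC P n (E ⊞ E') := by
  obtain ⟨⟨b₁, h₁⟩, hP⟩ := h
  obtain ⟨⟨b₂, h₂⟩, hP'⟩ := h'
  exact ⟨⟨max b₁ b₂, fun i hi => ((biprod_isZero_iff _ _).2
      ⟨h₁ i (by omega), h₂ i (by omega)⟩).of_iso (HomologicalComplex.biprodXIso E E' i)⟩,
    fun i hi => hA.ofIso (HomologicalComplex.biprodXIso E E' i).symm
      (hA.biprod (hP i hi) (hP' i hi))⟩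

variable [HasDerivedCategory.{w} C]

lemma pcn_biprod (hA : Add P) (hqs : PCoh.IsQuasiStableUnderKernels P)
    (hql : PCoh.IsQuasiLiftable P) (n : ℤ) (X Y : DerivedCategory C) [HasBinaryBiproduct X Y]
    (h : PCn P n X) (h' : PCn P n Y) : PCn P n (X ⊞ Y) :=
  pcn₂ hA hqs hql _ (binaryBiproductTriangle_distinguished X Y) n h h'

lemma pcn_of_biprod (hA : Add P) (hqs : PCoh.IsQuasiStableUnderKernels P)
    (hql : PCoh.IsQuasiLiftable P) (n : ℤ) (X Y : DerivedCategory C) [HasBinaryBiproduct X Y]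
    (h : PCn P n (X ⊞ Y)) : PCn P n X ∧ PCn P n Y := by
  obtain ⟨b, hb⟩ := pcn_bound h
  have hbX : ∀ i, b < i → IsZero ((DerivedCategory.homologyFunctor C i).obj X) := fun i hi =>
    IsZero.of_mono ((DerivedCategory.homologyFunctor C i).map (biprod.inl : X ⟶ X ⊞ Y)) (hb i hi)
  have hbY : ∀ i, b < i → IsZero ((DerivedCategory.homologyFunctor C i).obj Y) := fun i hi =>
    IsZero.of_mono ((DerivedCategory.homologyFunctor C i).map (biprod.inr : Y ⟶ X ⊞ Y)) (hb i hi)
  let KX := DerivedCategory.Q.objPreimage X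
  let eX : DerivedCategory.Q.obj KX ≅ X := DerivedCategory.Q.objObjPreimageIso X
  let KY := DerivedCategory.Q.objPreimage Y
  let eY : DerivedCategory.Q.obj KY ≅ Y := DerivedCategory.Q.objObjPreimageIso Y
  have : PreservesBinaryBiproducts (DerivedCategory.Q (C := C)) :=
    preservesBinaryBiproducts_of_preservesBiproducts _
  have hsum : DerivedCategory.Q.obj (KX ⊞ KY) ≅ X ⊞ Y :=
    DerivedCategory.Q.mapBiprod KX KY ≪≫ biprod.mapIso eX eY
  have hsum' : DerivedCategory.Q.obj (KY ⊞ KX) ≅ X ⊞ Y :=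
    DerivedCategory.Q.mapIso (biprod.braiding KY KX) ≪≫ hsum
  suffices ∀ (k : ℕ) (m : ℤ), n ≤ m → b + 1 ≤ m + k → PCn P m X ∧ PCn P m Y by
    exact this ((b + 1 - n).toNat) n le_rfl (by omega)
  intro k
  induction k with
  | zero => exact fun m _ hm => ⟨pcn_of_acyclic hA b m (by omega) hbX,
      pcn_of_acyclic hA b m (by omega) hbY⟩
  | succ k ih =>
    intro m hnm hm
    by_cases hmb : b < m
    · exact ⟨pcn_of_acyclic hA b m hmb hbX, pcn_of_acyclic hA b m hmb hbY⟩
    obtain ⟨hX, hY⟩ := ih (m + 1) (by omega) (by omega)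
    obtain ⟨A⟩ := approx_of_pcn hA hqs hql KX (m + 1) b (pcn_iso eX.symm hX)
      (fun j hj => (isZero_H_iff KX j).1 ((hbX j hj).of_iso
        ((DerivedCategory.homologyFunctor C j).mapIso eX))) (by omega)
    obtain ⟨B⟩ := approx_of_pcn hA hqs hql KY (m + 1) b (pcn_iso eY.symm hY)
      (fun j hj => (isZero_H_iff KY j).1 ((hbY j hj).of_iso
        ((DerivedCategory.homologyFunctor C j).mapIso eY))) (by omega)
    have hLM : ∀ (L M : CochainComplex C ℤ), PCoh.IsStrictPC P (m + 1) L →
        PCoh.IsStrictPC P (m + 1) M → PCn P (m + 1) (DerivedCategory.Q.obj (L ⊞ M)) :=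
      fun L M hL hM => ⟨_, strictPC_biprod hA hL hM, ⟨Iso.refl _⟩⟩
    have hA' : PCoh.IsStrictPC P (m + 1) A.L := ⟨⟨b, A.hup⟩, fun i _ => A.hP i⟩
    have hB' : PCoh.IsStrictPC P (m + 1) B.L := ⟨⟨b, B.hup⟩, fun i _ => B.hP i⟩
    have hXY := pcn_mono hnm h
    refine ⟨?_, ?_⟩
    · obtain ⟨A', -⟩ := app_step hA hql (by omega) A (ft_cone_left A.ℓ B.ℓ m
        (ft_cone hA hqs hql _ m (hLM _ _ hA' hB') (pcn_iso hsum.symm hXY)
          (nqiso_biprod _ _ A.hn B.hn)))
      exact pcn_iso eX (pcn_of_app hA A')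
    · obtain ⟨B', -⟩ := app_step hA hql (by omega) B (ft_cone_left B.ℓ A.ℓ m
        (ft_cone hA hqs hql _ m (hLM _ _ hB' hA') (pcn_iso hsum'.symm hXY)
          (nqiso_biprod _ _ B.hn A.hn)))
      exact pcn_iso eY (pcn_of_app hA B')

end Groth.Agent.PCoh41
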