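import Groth.Agent.PCoh41.Devissage
import Mathlib.CategoryTheory.Triangulated.Functor

set_option autoImplicit false
universe w v u w' v' u'

open CategoryTheory CategoryTheory.Limits HomologicalComplex Pretriangulated
open scoped ZeroObject

namespace Groth.Agent.PCoh41

variable {C : Type u} [Category.{v} C] [Abelian C] [HasDerivedCategory.{w} C]

/-- dévissage of a bounded complex for a property closed under extensions. -/
lemma bounded_induction (Φ : DerivedCategory C → Prop)
    (hzero : ∀ {X}, IsZero X → Φ X)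
    (hext : ∀ T ∈ (distinguishedTriangles : Set (Triangle (DerivedCategory C))),
      Φ T.obj₁ → Φ T.obj₃ → Φ T.obj₂)
    (F : CochainComplex C ℤ) (a b : ℤ) (hF : ∀ i, i < a ∨ b < i → IsZero (F.X i))
    (hsingle : ∀ i, a ≤ i → i ≤ b →
      Φ (DerivedCategory.Q.obj ((single C (ComplexShape.up ℤ) i).obj (F.X i)))) :
    Φ (DerivedCategory.Q.obj F) := by
  have hz0 : ∀ (G : CochainComplex C ℤ), (∀ i, IsZero (G.X i)) → Φ (DerivedCategory.Q.obj G) :=
    fun G hG => hzero (DerivedCategory.Q.map_isZero
      ((IsZero.iff_id_eq_zero _).2 (by ext i; exact (hG i).eq_of_src _ _)))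
  suffices ∀ (k : ℕ) (b : ℤ), b - a < k → ∀ F : CochainComplex C ℤ,
      (∀ i, i < a ∨ b < i → IsZero (F.X i)) → (∀ i, a ≤ i → i ≤ b →
        Φ (DerivedCategory.Q.obj ((single C (ComplexShape.up ℤ) i).obj (F.X i)))) →
      Φ (DerivedCategory.Q.obj F) by
    exact this ((b - a).toNat + 1) b (by omega) F hF hsingle
  intro k
  induction k with
  | zero => exact fun b hba F hF _ => hz0 F (fun i => hF i (by omega))
  | succ k ih =>
    intro b hba F hF hs
    by_cases h : b < a
    · exact hz0 F (fun i => hF i (by omega))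
    let ι : (single C (ComplexShape.up ℤ) b).obj (F.X b) ⟶ F :=
      mkHomFromSingle (𝟙 _) (fun j (hj : b + 1 = j) => (hF j (Or.inr (by omega))).eq_of_tgt _ _)
    have hι : ι.f b = (singleObjXSelf (ComplexShape.up ℤ) b (F.X b)).hom :=
      (mkHomFromSingle_f _ _).trans (Category.comp_id _)
    have : ∀ i, Mono (ι.f i) := fun i => by
      by_cases hi : i = b
      · subst hi; rw [hι]; infer_instance
      · exact ⟨fun g h _ => (isZero_single_obj_X _ b (F.X b) i hi).eq_of_tgt _ _⟩
    have : Mono ι := mono_of_mono_f ι this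
    let S := ShortComplex.mk ι (cokernel.π ι) (cokernel.condition ι)
    have hS : S.ShortExact := ShortComplex.ShortExact.mk (ShortComplex.exact_cokernel ι)
    have hSi : ∀ i, (S.map (eval C _ i)).ShortExact := fun i => hS.map_of_exact _
    have h₃ : ∀ i, i < a ∨ b - 1 < i → IsZero ((cokernel ι).X i) := by
      intro i hi
      have := (hSi i).epi_g
      by_cases hib : i = b
      · subst hib
        have : (cokernel.π ι).f i = 0 := by
          have h0 := congr_arg (fun t : _ ⟶ cokernel ι => t.f i) (cokernel.condition ι)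
          simp only [comp_f, zero_f, hι] at h0
          exact (cancel_epi _).1 (h0.trans comp_zero.symm)
        exact IsZero.of_epi_eq_zero ((cokernel.π ι).f i) this
      · exact IsZero.of_epi ((cokernel.π ι).f i) (hF i (by omega))
    refine hext _ (DerivedCategory.triangleOfSES_distinguished hS) (hs b (by omega) le_rfl)
      (ih (b - 1) (by omega) _ h₃ (fun i hi hi' => ?_))
    have := (hSi i).epi_g
    have : Mono ((cokernel.π ι).f i) := (hSi i).exact.mono_g
      ((isZero_single_obj_X (ComplexShape.up ℤ) b (F.X b) i (by omega)).eq_of_src _ _)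
    have e : (single C (ComplexShape.up ℤ) i).obj (F.X i) ≅
        (single C (ComplexShape.up ℤ) i).obj ((cokernel ι).X i) :=
      (single C (ComplexShape.up ℤ) i).mapIso
        (@asIso _ _ _ _ ((cokernel.π ι).f i) (isIso_of_mono_of_epi _))
    have hT : Triangle.mk (DerivedCategory.Q.map e.hom) (0 : _ ⟶ (0 : DerivedCategory C)) 0
        ∈ (distinguishedTriangles : Set (Triangle (DerivedCategory C))) := by
      refine isomorphic_distinguished _ (contractible_distinguished _) _
        (Triangle.isoMk _ _ (Iso.refl _) (DerivedCategory.Q.mapIso e.symm) (Iso.refl _) ?_ ?_ ?_)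
      · exact ((DerivedCategory.Q.mapIso e).hom_inv_id).trans (Category.comp_id _).symm
      · dsimp; exact (isZero_zero _).eq_of_tgt _ _
      · dsimp; exact (isZero_zero _).eq_of_src _ _
    exact hext _ hT (hs i hi (by omega)) (hzero (isZero_zero _))

lemma isZero_H_shift (X : DerivedCategory C) (n i i' : ℤ) (h : n + i = i') :
    IsZero ((DerivedCategory.homologyFunctor C i).obj (X⟦n⟧)) ↔
      IsZero ((DerivedCategory.homologyFunctor C i').obj X) :=
  Iso.isZero_iff (((DerivedCategory.homologyFunctor C 0).shiftIso n i i' h).app X)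

variable {C' : Type u'} [Category.{v'} C'] [Abelian C'] [HasDerivedCategory.{w'} C']
  {P : ObjectProperty C} {P' : ObjectProperty C'}

/-- S5620. -/
lemma pcn_map (hA : Add P) (hqs : PCoh.IsQuasiStableUnderKernels P)
    (hql : PCoh.IsQuasiLiftable P) (hA' : Add P') (hqs' : PCoh.IsQuasiStableUnderKernels P')
    (hql' : PCoh.IsQuasiLiftable P')
    (u : DerivedCategory C ⥤ DerivedCategory C') [u.CommShift ℤ] [u.IsTriangulated] (a b : ℤ)
    (hi : ∀ E : C, P E → PCn P' a (u.obj ((DerivedCategory.singleFunctor C 0).obj E)))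
    (hii : ∀ F : DerivedCategory C,
      (∀ i : ℤ, 0 < i → IsZero ((DerivedCategory.homologyFunctor C i).obj F)) →
      ∀ i : ℤ, b < i → IsZero ((DerivedCategory.homologyFunctor C' i).obj (u.obj F)))
    (m n : ℤ) (F : DerivedCategory C) (hF : PCn P m F)
    (hac : ∀ i : ℤ, n < i → IsZero ((DerivedCategory.homologyFunctor C i).obj F)) :
    PCn P' (max (m + b) (n + a)) (u.obj F) ∧
      ∀ i : ℤ, n + b < i → IsZero ((DerivedCategory.homologyFunctor C' i).obj (u.obj F)) := by
  have hbd : ∀ (G : DerivedCategory C) (k : ℤ),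
      (∀ i, k < i → IsZero ((DerivedCategory.homologyFunctor C i).obj G)) →
      ∀ i, k + b < i → IsZero ((DerivedCategory.homologyFunctor C' i).obj (u.obj G)) := by
    intro G k hG i hi'
    have h1 := hii (G⟦k⟧) (fun j hj => (isZero_H_shift G k j (k + j) rfl).2 (hG _ (by omega)))
      (i - k) (by omega)
    exact (isZero_H_shift (u.obj G) k (i - k) i (by omega)).1
      (h1.of_iso ((DerivedCategory.homologyFunctor C' _).mapIso ((u.commShiftIso k).app G).symm))
  refine ⟨?_, hbd F n hac⟩
  by_cases hmn : n < m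
  · exact pcn_of_acyclic hA' (n + b) _ (by omega) (hbd F n hac)
  let K := DerivedCategory.Q.objPreimage F
  let e : DerivedCategory.Q.obj K ≅ F := DerivedCategory.Q.objObjPreimageIso F
  obtain ⟨A⟩ := approx_of_pcn hA hqs hql K m n (pcn_iso e.symm hF)
    (fun j hj => (isZero_H_iff K j).1 ((hac j hj).of_iso
      ((DerivedCategory.homologyFunctor C j).mapIso e))) (by omega)
  have hL : PCn P' (n + a) (u.obj (DerivedCategory.Q.obj A.L)) :=
    bounded_induction (fun X => PCn P' (n + a) (u.obj X))
      (fun h => pcn_of_acyclic hA' (n + a - 1) _ (by omega)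
        (fun i _ => (DerivedCategory.homologyFunctor C' i).map_isZero (u.map_isZero h)))
      (fun T hT h1 h3 => pcn₂ hA' hqs' hql' _ (u.map_distinguished T hT) _ h1 h3)
      A.L m n (fun i hi' => hi'.elim (A.hlow i) (A.hup i))
      (fun i _ hin => pcn_iso
          (((u.commShiftIso (-i)).app ((DerivedCategory.singleFunctor C 0).obj (A.L.X i))).symm ≪≫
            u.mapIso (singleShiftIso i (A.L.X i)))
        (pcn_shift (pcn_mono (show a ≤ n + a - i by omega) (hi _ (A.hP i))) (-i) _ (by omega)))
  have hT := u.map_distinguished _ (DerivedCategory.mappingCone_triangle_distinguished A.ℓ)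
  refine pcn_iso (u.mapIso e) (pcn₂ hA' hqs' hql' _ hT _ (pcn_mono (le_max_right _ _) hL) ?_)
  exact pcn_of_acyclic hA' (m - 1 + b) _ (by omega)
    (hbd _ (m - 1) (fun i hi' => (isZero_H_iff _ i).2 (A.hn i (by omega))))

end Groth.Agent.PCoh41
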