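import Groth.Prelude.Def_PCoh
import Mathlib.CategoryTheory.Abelian.Refinements
import Mathlib.CategoryTheory.Limits.Shapes.Biproducts

set_option autoImplicit false
universe w v u

open CategoryTheory CategoryTheory.Limits

namespace Groth.Agent.PCoh41

variable {C : Type u} [Category.{v} C] [Abelian C] {P : ObjectProperty C}

/-- the two additive closure properties used everywhere. -/
structure Add (P : ObjectProperty C) : Prop where
  ofIso : ∀ {X Y : C}, (X ≅ Y) → P X → P Y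
  zero : ∀ {X : C}, IsZero X → P X
  biprod : ∀ {X Y : C}, P X → P Y → P (X ⊞ Y)

lemma add_mk [P.IsClosedUnderIsomorphisms] [P.ContainsZero]
    (hsum : ∀ X Y : C, P X → P Y → P (X ⨯ Y)) : Add P where
  ofIso e h := P.prop_of_iso e h
  zero h := P.prop_of_isZero h
  biprod h h' := P.prop_of_iso (biprod.isoProd _ _).symm (hsum _ _ h h')

/-- `G` is precoherent relative to `P`. -/
def Precoh (P : ObjectProperty C) (G : C) : Prop :=
  ∀ (E : C) (u : E ⟶ G), P E → PCoh.IsOfFiniteType P (kernel u)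

lemma ft_of_epi {X Y : C} (f : X ⟶ Y) [Epi f] (h : PCoh.IsOfFiniteType P X) :
    PCoh.IsOfFiniteType P Y := by
  obtain ⟨E, π, hE, hπ⟩ := h
  exact ⟨E, π ≫ f, hE, epi_comp _ _⟩

lemma ft_of_prop {X : C} (h : P X) : PCoh.IsOfFiniteType P X := ⟨X, 𝟙 X, h, inferInstance⟩

lemma ft_of_iso {X Y : C} (e : X ≅ Y) (h : PCoh.IsOfFiniteType P X) :
    PCoh.IsOfFiniteType P Y := ft_of_epi e.hom h

/-- lifting a finite type quotient through an epimorphism. -/
lemma ft_lift (hql : PCoh.IsQuasiLiftable P) {X Y : C} (p : X ⟶ Y) [Epi p]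
    (h : PCoh.IsOfFiniteType P Y) : ∃ (E : C) (g : E ⟶ X), P E ∧ Epi (g ≫ p) := by
  obtain ⟨E₀, π, hE₀, hπ⟩ := h
  obtain ⟨E, v, hE, hv⟩ := hql _ _ (pullback.snd p π) inferInstance hE₀
  refine ⟨E, v ≫ pullback.fst p π, hE, ?_⟩
  rw [Category.assoc, pullback.condition, ← Category.assoc]
  infer_instance

lemma ft_biprod (hA : Add P) {X Y : C} (h : PCoh.IsOfFiniteType P X)
    (h' : PCoh.IsOfFiniteType P Y) : PCoh.IsOfFiniteType P (X ⊞ Y) := by
  obtain ⟨E, π, hE, hπ⟩ := h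
  obtain ⟨E', π', hE', hπ'⟩ := h'
  exact ⟨E ⊞ E', biprod.map π π', hA.biprod hE hE', inferInstance⟩

/-- S5623. -/
lemma ft_kernel_of_precoh (S : ShortComplex C) (hS : S.Exact) (hf : Mono S.f)
    (hG : PCoh.IsOfFiniteType P S.X₂) (hH : Precoh P S.X₃) :
    PCoh.IsOfFiniteType P S.X₁ := by
  obtain ⟨E₀, π, hE₀, hπ⟩ := hG
  let t : kernel (π ≫ S.g) ⟶ S.X₁ :=
    hS.lift (kernel.ι (π ≫ S.g) ≫ π) (by simp [Category.assoc])
  have ht : t ≫ S.f = kernel.ι (π ≫ S.g) ≫ π := hS.lift_f _ _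
  have : Epi t := by
    rw [epi_iff_surjective_up_to_refinements]
    intro A a
    obtain ⟨A', q, hq, e, he⟩ := surjective_up_to_refinements_of_epi π (a ≫ S.f)
    refine ⟨A', q, hq, kernel.lift _ e (by rw [← reassoc_of% he]; simp), ?_⟩
    rw [← cancel_mono S.f, Category.assoc, Category.assoc, ht, kernel.lift_ι_assoc]
    simpa using he
  exact ft_of_epi t (hH _ _ hE₀)

/-- S12099. -/
lemma precoh_cokernel (hA : Add P) (hql : PCoh.IsQuasiLiftable P) (S : ShortComplex C)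
    (hS : S.Exact) (hg : Epi S.g) (hF : PCoh.IsOfFiniteType P S.X₁) (hG : Precoh P S.X₂) :
    Precoh P S.X₃ := by
  intro E u hE
  obtain ⟨F₀, ρ, hF₀, hρ⟩ := hF
  obtain ⟨E', v, hE', hv⟩ := hql _ _ (pullback.snd S.g u) inferInstance hE
  let ut := v ≫ pullback.fst S.g u
  let p := v ≫ pullback.snd S.g u
  have hut : ut ≫ S.g = p ≫ u := by simp [ut, p, pullback.condition]
  have : Epi p := hv
  let w := biprod.desc (ρ ≫ S.f) ut
  let t : kernel w ⟶ kernel u := kernel.lift u (kernel.ι w ≫ biprod.snd ≫ p) (by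
    have h : biprod.snd ≫ p ≫ u = w ≫ S.g := by
      apply biprod.hom_ext' <;> simp [w, hut]
    simp only [Category.assoc, h, kernel.condition_assoc, zero_comp])
  have : Epi t := by
    rw [epi_iff_surjective_up_to_refinements]
    intro A a
    obtain ⟨A₁, q, hq, e, he⟩ := surjective_up_to_refinements_of_epi p (a ≫ kernel.ι u)
    have h0 : (e ≫ ut) ≫ S.g = 0 := by
      rw [Category.assoc, hut, ← reassoc_of% he]; simp
    obtain ⟨A₂, q₂, hq₂, z, hz⟩ := hS.exact_up_to_refinements (e ≫ ut) h0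
    obtain ⟨A₃, q₃, hq₃, f, hf⟩ := surjective_up_to_refinements_of_epi ρ z
    refine ⟨A₃, q₃ ≫ q₂ ≫ q, inferInstance,
      kernel.lift w (biprod.lift (-f) (q₃ ≫ q₂ ≫ e)) ?_, ?_⟩
    · simp [w, hz, ← reassoc_of% hf]
    · rw [← cancel_mono (kernel.ι u)]
      simp [t, he]
  exact ft_of_epi t (hG _ _ (hA.biprod hF₀ hE'))

/-- S5624, first half. -/
lemma precoh_middle (S : ShortComplex C) (hS : S.ShortExact) (hF : Precoh P S.X₁)
    (hH : Precoh P S.X₃) : Precoh P S.X₂ := by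
  intro E u hE
  obtain ⟨E₁, π, hE₁, hπ⟩ := hH E (u ≫ S.g) hE
  have := hS.mono_f
  let l : E₁ ⟶ S.X₁ :=
    hS.exact.lift (π ≫ kernel.ι (u ≫ S.g) ≫ u) (by simp [Category.assoc])
  have hl : l ≫ S.f = π ≫ kernel.ι (u ≫ S.g) ≫ u := hS.exact.lift_f _ _
  let t : kernel l ⟶ kernel u := kernel.lift u (kernel.ι l ≫ π ≫ kernel.ι (u ≫ S.g)) (by
    simp [Category.assoc, ← hl])
  have : Epi t := by
    rw [epi_iff_surjective_up_to_refinements]
    intro A a
    obtain ⟨A', q, hq, e, he⟩ := surjective_up_to_refinements_of_epi π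
      (kernel.lift (u ≫ S.g) (a ≫ kernel.ι u) (by simp))
    have he' := he =≫ kernel.ι _
    simp only [Category.assoc, kernel.lift_ι] at he'
    refine ⟨A', q, hq, kernel.lift l e ?_, ?_⟩
    · rw [← cancel_mono S.f, Category.assoc, hl, ← reassoc_of% he']
      simp
    · rw [← cancel_mono (kernel.ι u)]
      simp [t, he']
  exact ft_of_epi t (hF _ _ hE₁)

/-- S5624, second half. -/
lemma ft_middle (hA : Add P) (hql : PCoh.IsQuasiLiftable P) (S : ShortComplex C)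
    (hS : S.ShortExact) (hF : PCoh.IsOfFiniteType P S.X₁) (hH : PCoh.IsOfFiniteType P S.X₃) :
    PCoh.IsOfFiniteType P S.X₂ := by
  obtain ⟨E₁, π, hE₁, hπ⟩ := hF
  have := hS.epi_g
  obtain ⟨E₃, g, hE₃, hg⟩ := ft_lift hql S.g hH
  refine ⟨E₁ ⊞ E₃, biprod.desc (π ≫ S.f) g, hA.biprod hE₁ hE₃, ?_⟩
  rw [epi_iff_surjective_up_to_refinements]
  intro A a
  obtain ⟨A₁, q, hq, e, he⟩ := surjective_up_to_refinements_of_epi (g ≫ S.g) (a ≫ S.g)
  obtain ⟨A₂, q₂, hq₂, z, hz⟩ := hS.exact.exact_up_to_refinements (q ≫ a - e ≫ g)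
    (by simp [Category.assoc, he])
  obtain ⟨A₃, q₃, hq₃, f, hf⟩ := surjective_up_to_refinements_of_epi π z
  refine ⟨A₃, q₃ ≫ q₂ ≫ q, inferInstance, biprod.lift f (q₃ ≫ q₂ ≫ e), ?_⟩
  simp [← reassoc_of% hf, ← hz]

end Groth.Agent.PCoh41
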